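import Groth.Agent.S17788
import Groth.Agent.Lib.RefHull.NormalAlg
import Mathlib.RingTheory.Discriminant
import Mathlib.FieldTheory.IsAlgClosed.AlgebraicClosure
import Mathlib.FieldTheory.Minpoly.IsIntegrallyClosed
import Mathlib.RingTheory.DedekindDomain.IntegralClosure

/-!
# Torsion divisor classes and purity
-/

set_option autoImplicit false
set_option linter.style.haveILetI false

universe u

open Polynomial IsLocalRing

namespace Groth.Agent.H99.ClassTorsion

variable {A : Type u} [CommRing A] [IsDomain A] [IsNoetherianRing A] [IsIntegrallyClosed A]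
  {K : Type u} [Field K] [Algebra A K] [IsFractionRing A K]

/-- `x` is a unit at `p`. -/
def UnitAt (p : Ideal A) (x : K) : Prop :=
  ∃ u v : A, u ∉ p ∧ v ∉ p ∧ algebraMap A K v * x = algebraMap A K u

theorem unitAt_bot {x : K} (hx : x ≠ 0) : UnitAt (⊥ : Ideal A) x := by
  obtain ⟨u, v, hv, rfl⟩ := IsFractionRing.div_surjective (A := A) x
  have hv0 : algebraMap A K v ≠ 0 := fun h => nonZeroDivisors.ne_zero hv
    (IsFractionRing.injective A K (h.trans (map_zero _).symm))
  exact ⟨u, v, fun h => hx (by rw [(Submodule.mem_bot A).mp h, map_zero, zero_div]),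
    fun h => nonZeroDivisors.ne_zero hv ((Submodule.mem_bot A).mp h), mul_div_cancel₀ _ hv0⟩

variable {L : Type u} [Field L] [Algebra K L] [FiniteDimensional K L] [Algebra.IsSeparable K L]
  [Algebra A L] [IsScalarTower A K L]

/-- Unramified where the generator is a root of a unit. -/
theorem isUnramifiedAt (s : ℕ) (hs : 0 < s) (hsu : IsUnit (s : A)) (q : Ideal (integralClosure A L))
    [q.IsPrime] (β : L) (hβ : Algebra.adjoin K ({β} : Set L) = ⊤) (c : A) (hc : c ∉ q.under A)
    (hβs : β ^ s = algebraMap A L c) : Algebra.IsUnramifiedAt A q := by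
  have hAL : Function.Injective (algebraMap A L) := by
    rw [IsScalarTower.algebraMap_eq A K L]
    exact (algebraMap K L).injective.comp (IsFractionRing.injective A K)
  haveI : Module.IsTorsionFree A L := Module.IsTorsionFree.trans_faithfulSMul A K L
  have hβi : IsIntegral A β := IsIntegral.of_pow hs (hβs ▸ isIntegral_algebraMap)
  let pb := PowerBasis.ofAdjoinEqTop' hβi.tower_top hβ
  have hgen : pb.gen = β := PowerBasis.ofAdjoinEqTop'_gen _ _
  have hc0 : c ≠ 0 := fun h => hc (h ▸ zero_mem _)
  obtain ⟨h, hh⟩ : minpoly K β ∣ X ^ s - C (algebraMap A K c) := minpoly.dvd K β (by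
    simp [hβs, ← IsScalarTower.algebraMap_apply A K L])
  -- the discriminant is a unit near `q`
  let g' := aeval β (minpoly K β).derivative
  have hprod : g' * (aeval β h * β) = algebraMap A L ((s : A) * c) := by
    have := congrArg (fun P => aeval β (derivative P)) hh
    simp only [derivative_sub, derivative_X_pow, derivative_C, sub_zero, derivative_mul, map_add,
      map_mul, minpoly.aeval, zero_mul, add_zero, map_pow, aeval_X, aeval_C] at this
    rw [map_mul, ← hβs, map_natCast]
    rw [map_natCast] at this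
    calc g' * (aeval β h * β) = (s : L) * β ^ (s - 1) * β := by rw [this]; ring
      _ = (s : L) * β ^ s := by rw [mul_assoc, ← pow_succ, Nat.sub_add_cancel hs]
  have hg'i : IsIntegral A g' := by
    rw [show g' = aeval β ((minpoly A β).map (algebraMap A K)).derivative by
      simp only [g', minpoly.isIntegrallyClosed_eq_field_fractions' K hβi], derivative_map, aeval_map_algebraMap]
    exact IsIntegral.of_mem_of_fg _ hβi.fg_adjoin_singleton _ (aeval_mem_adjoin_singleton A β)
  have hrest : IsIntegral A (aeval β h * β) := by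
    refine IsIntegral.mul ?_ hβi
    have hmon : (X ^ s - C c : A[X]).Monic := monic_X_pow_sub_C c hs.ne'
    obtain ⟨h', hh'⟩ : minpoly A β ∣ X ^ s - C c := minpoly.isIntegrallyClosed_dvd hβi (by simp [hβs])
    have : h = h'.map (algebraMap A K) := by
      refine mul_left_cancel₀ (minpoly.ne_zero (hβi.tower_top (A := K))) ?_
      rw [← hh, minpoly.isIntegrallyClosed_eq_field_fractions' K hβi, ← Polynomial.map_mul, ← hh']
      simp
    rw [this, aeval_map_algebraMap]
    exact IsIntegral.of_mem_of_fg _ hβi.fg_adjoin_singleton _ (aeval_mem_adjoin_singleton A β)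
  obtain ⟨N1, hN1⟩ := IsIntegrallyClosed.isIntegral_iff.mp (Algebra.isIntegral_norm K hg'i)
  obtain ⟨N2, hN2⟩ := IsIntegrallyClosed.isIntegral_iff.mp (Algebra.isIntegral_norm K hrest)
  have hN : N1 * N2 = ((s : A) * c) ^ Module.finrank K L := by
    apply IsFractionRing.injective A K
    rw [map_mul, hN1, hN2, ← map_mul, hprod, map_pow, IsScalarTower.algebraMap_apply A K L,
      Algebra.norm_algebraMap]
  have hN1q : N1 ∉ q.under A := fun hm => by
    have h1 : ((s : A) * c) ^ Module.finrank K L ∈ q.under A := hN ▸ Ideal.mul_mem_right _ _ hm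
    rcases (inferInstance : (q.under A).IsPrime).mem_or_mem
      ((inferInstance : (q.under A).IsPrime).mem_of_pow_mem _ h1) with h | h
    · exact Ideal.IsPrime.ne_top inferInstance (Ideal.eq_top_of_isUnit_mem _ h hsu)
    · exact hc h
  let dA : A := (-1) ^ (Module.finrank K L * (Module.finrank K L - 1) / 2) * N1
  have hdA : algebraMap A K dA = Algebra.discr K pb.basis := by
    rw [Algebra.discr_powerBasis_eq_norm, hgen]
    simp [dA, hN1, g']
  have hdAq : dA ∉ q.under A := fun hm => by
    rcases (inferInstance : (q.under A).IsPrime).mem_or_mem hm with h | h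
    · exact Ideal.IsPrime.ne_top inferInstance (Ideal.eq_top_of_isUnit_mem _ h (isUnit_one.neg.pow _))
    · exact hN1q h
  -- the differentials are killed
  let B := integralClosure A L
  let b : B := ⟨β, hβi⟩
  have hbs : b ^ s = algebraMap A B c := Subtype.ext hβs
  have hDb : ((s : A) * c) • KaehlerDifferential.D A B b = 0 := by
    have h1 := congrArg (KaehlerDifferential.D A B) hbs
    rw [Derivation.leibniz_pow, Derivation.map_algebraMap, ← Nat.cast_smul_eq_nsmul B, smul_smul] at h1
    have h2 := congrArg (fun ω => b • ω) h1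
    simp only [smul_zero, smul_smul] at h2
    rw [← algebraMap_smul B, map_mul, ← hbs, map_natCast]
    rw [show (s : B) * b ^ s = b * ((s : B) * b ^ (s - 1)) by
      rw [mul_left_comm, ← pow_succ', Nat.sub_add_cancel hs]]
    exact h2
  have hz : ∀ z : B, ((s : A) * c * dA) • KaehlerDifferential.D A B z = 0 := fun z => by
    have hmem := Algebra.discr_mul_isIntegral_mem_adjoin (R := A) K (B := pb) (z := (z : L))
      (by rw [hgen]; exact hβi) z.2
    rw [hgen, Algebra.adjoin_singleton_eq_range_aeval, ← hdA, algebraMap_smul] at hmem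
    obtain ⟨P, hP⟩ := hmem
    have h3 : dA • z = aeval b P := Subtype.ext (by
      show dA • (z : L) = _
      rw [← hP]
      exact (aeval_algHom_apply (B.val) b P).symm ▸ rfl)
    rw [mul_smul, ← Derivation.map_smul, h3, Derivation.map_aeval, smul_comm, hDb, smul_zero]
  have hq' : algebraMap A B ((s : A) * c * dA) ∉ q := fun hm => by
    rcases ‹q.IsPrime›.mem_or_mem (show algebraMap A B ((s : A) * c) * algebraMap A B dA ∈ q by
      rwa [← map_mul]) with h | h
    · rcases (inferInstance : (q.under A).IsPrime).mem_or_mem (show (s : A) * c ∈ q.under A from h) with h | h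
      · exact Ideal.IsPrime.ne_top inferInstance (Ideal.eq_top_of_isUnit_mem _ h hsu)
      · exact hc h
    · exact hdAq h
  show (⟨q, inferInstance⟩ : PrimeSpectrum B) ∈ Algebra.unramifiedLocus A B
  rw [Algebra.unramifiedLocus_eq_compl_support, Set.mem_compl_iff, Module.notMem_support_iff']
  intro ω
  refine ⟨_, hq', ?_⟩
  have hmem : ω ∈ Submodule.span B (Set.range (KaehlerDifferential.D A B)) := by
    rw [KaehlerDifferential.span_range_derivation]; trivial
  induction hmem using Submodule.span_induction with
  | mem x hx => obtain ⟨z, rfl⟩ := hx; rw [algebraMap_smul]; exact hz z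
  | zero => exact smul_zero _
  | add x y _ _ hx hy => rw [smul_add, hx, hy, add_zero]
  | smul r x _ hx => rw [smul_comm, hx, smul_zero]

omit [IsNoetherianRing A] [IsIntegrallyClosed A] in
theorem mem_of_unit_mul {x : K} (p : Ideal A) [p.IsPrime] {a₁ s₁ a₂ s₂ : A} (hs₁ : s₁ ∉ p) (hs₂ : s₂ ∉ p)
    {y : K} (h₁ : algebraMap A K s₁ * x = algebraMap A K a₁) (h₂ : algebraMap A K s₂ * y = algebraMap A K a₂)
    (hxy : x * y = 1) : UnitAt p x := by
  refine ⟨a₁, s₁, fun h => ?_, hs₁, h₁⟩
  have h3 : a₁ * a₂ = s₁ * s₂ := IsFractionRing.injective A K (by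
    rw [map_mul, map_mul, ← h₁, ← h₂]
    linear_combination (algebraMap A K s₁ * algebraMap A K s₂) * hxy)
  rcases ‹p.IsPrime›.mem_or_mem (show s₁ * s₂ ∈ p from h3 ▸ p.mul_mem_right _ h) with h | h
  · exact hs₁ h
  · exact hs₂ h

/-- Torsion divisor classes of order invertible in the ring are trivial when the ring is pure in
codimension two. -/
theorem exists_unitAt [IsLocalRing A] (hA : EGA4.IsExcellent A)
    (hpure : ∀ (P : Ideal A) [P.IsPrime], (2 : ℕ∞) ≤ P.height → SGA2.IsPurePair
      (AlgebraicGeometry.Spec (CommRingCat.of (AdicCompletion (IsLocalRing.maximalIdeal (Localization.AtPrime P)) (Localization.AtPrime P))))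
      (FEt.puncturedSpec (AdicCompletion (IsLocalRing.maximalIdeal (Localization.AtPrime P)) (Localization.AtPrime P))))
    (K : Type u) [Field K] [Algebra A K] [IsFractionRing A K]
    (s : ℕ) (hs : 0 < s) (hsu : IsUnit (s : A)) (a : K) (ha : a ≠ 0)
    (h : ∀ p : Ideal A, p.IsPrime → p.height = 1 → ∃ b : K, b ≠ 0 ∧ UnitAt p (a / b ^ s)) :
    ∃ g : K, g ≠ 0 ∧ ∀ p : Ideal A, p.IsPrime → p.height = 1 → ∀ b : K, b ≠ 0 → UnitAt p (a / b ^ s) →
      UnitAt p (g / b) := by
  classical
  let Ω := AlgebraicClosure K
  obtain ⟨α, hα⟩ := IsAlgClosed.exists_pow_nat_eq (algebraMap K Ω a) hs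
  have hα0 : α ≠ 0 := fun e => ha ((algebraMap K Ω).injective (by rw [map_zero, ← hα, e, zero_pow hs.ne']))
  have hsK : ((s : K)) ≠ 0 := by
    rw [← map_natCast (algebraMap A K)]
    exact (hsu.map (algebraMap A K)).ne_zero
  have hαi : IsIntegral K α := ⟨X ^ s - C a, monic_X_pow_sub_C a hs.ne', by simp [hα]⟩
  have hαs : IsSeparable K α :=
    (separable_X_pow_sub_C a hsK ha).of_dvd (minpoly.dvd K α (by simp [hα]))
  let L := IntermediateField.adjoin K ({α} : Set Ω)
  haveI : FiniteDimensional K L := IntermediateField.adjoin.finiteDimensional hαi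
  haveI : Algebra.IsSeparable K L := (IntermediateField.isSeparable_adjoin_simple_iff_isSeparable K Ω).mpr hαs
  let αL : L := ⟨α, IntermediateField.mem_adjoin_simple_self K α⟩
  have hαL : αL ^ s = algebraMap K L a := Subtype.ext hα
  have hαL0 : αL ≠ 0 := fun e => hα0 (congrArg Subtype.val e)
  have hgen : Algebra.adjoin K ({αL} : Set L) = ⊤ := by
    rw [← (IntermediateField.adjoin.powerBasis hαi).adjoin_gen_eq_top]
    rfl
  let B := integralClosure A L
  haveI : IsIntegralClosure B A L := integralClosure.isIntegralClosure A L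
  haveI : Module.Finite A B := IsIntegralClosure.finite A K L B
  haveI : IsFractionRing B L := integralClosure.isFractionRing_of_finite_extension K L
  haveI : IsIntegrallyClosed B := integralClosure.isIntegrallyClosedOfFiniteExtension K
  haveI : IsNoetherianRing B := IsNoetherianRing.of_finite A B
  have hAL : Function.Injective (algebraMap A L) := by
    rw [IsScalarTower.algebraMap_eq A K L]
    exact (algebraMap K L).injective.comp (IsFractionRing.injective A K)
  have hinj : Function.Injective (algebraMap A B) := fun x y e => hAL (congrArg Subtype.val e)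
  haveI : FaithfulSMul A B := (faithfulSMul_iff_algebraMap_injective A B).mpr hinj
  -- the two root elements at a prime
  have hβ : ∀ (b : K) (u v : A), algebraMap A K v * (a / b ^ s) = algebraMap A K u → b ≠ 0 →
      (algebraMap A L v * αL / algebraMap K L b) ^ s = algebraMap A L (v ^ (s - 1) * u) := by
    intro b u v huv hb
    rw [div_pow, mul_pow, hαL, IsScalarTower.algebraMap_apply A K L v, IsScalarTower.algebraMap_apply A K L]
    simp only [← map_pow, ← map_mul, ← map_div₀]
    congr 1
    simp only [map_mul, map_pow]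
    rw [← huv, ← mul_assoc, ← pow_succ, Nat.sub_add_cancel hs, mul_div_assoc]
  -- unramified everywhere
  have hcodim : ∀ (q : Ideal B) [q.IsPrime], (q.under A).height ≤ 1 → Algebra.IsUnramifiedAt A q := by
    intro q _ hq
    obtain ⟨b, hb, u, v, hu, hv, huv⟩ : ∃ b : K, b ≠ 0 ∧ UnitAt (q.under A) (a / b ^ s) := by
      rcases eq_or_ne (q.under A) ⊥ with e | e
      · exact ⟨1, one_ne_zero, e ▸ unitAt_bot (by simpa using ha)⟩
      · refine h _ inferInstance (le_antisymm hq ?_)
        rw [Order.one_le_iff_pos, pos_iff_ne_zero, Ne, Ideal.height_eq_zero_iff, IsDomain.minimalPrimes_eq_singleton_bot]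
        exact e
    refine isUnramifiedAt (K := K) s hs hsu q (algebraMap A L v * αL / algebraMap K L b) ?_ _ ?_ (hβ b u v huv hb)
    · refine top_unique (hgen.ge.trans (Algebra.adjoin_le (Set.singleton_subset_iff.mpr ?_)))
      have hv0 : algebraMap A K v ≠ 0 := fun e =>
        hv (by rw [IsFractionRing.injective A K (e.trans (map_zero _).symm)]; exact zero_mem _)
      have : αL = (b / algebraMap A K v) • (algebraMap A L v * αL / algebraMap K L b) := by
        rw [Algebra.smul_def, map_div₀, IsScalarTower.algebraMap_apply A K L v]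
        field_simp [(_root_.map_ne_zero (algebraMap K L)).mpr hb, (_root_.map_ne_zero (algebraMap K L)).mpr hv0]
      exact Set.mem_of_eq_of_mem this (Subalgebra.smul_mem _ (Algebra.self_mem_adjoin_singleton K _) _)
    · intro hm
      rcases (inferInstance : (q.under A).IsPrime).mem_or_mem hm with hm | hm
      · exact hv ((inferInstance : (q.under A).IsPrime).mem_of_pow_mem _ hm)
      · exact hu hm
  have hunr : ∀ Q : PrimeSpectrum B, Algebra.IsUnramifiedAt A Q.asIdeal := by
    by_contra hc
    push Not at hc
    obtain ⟨Q, hQ⟩ := hc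
    obtain ⟨q, hq, hmin⟩ := (wellFounded_lt (α := ℕ∞)).onFun (f := fun Q : PrimeSpectrum B => Q.asIdeal.height)
      |>.has_min {Q : PrimeSpectrum B | ¬ Algebra.IsUnramifiedAt A Q.asIdeal} ⟨Q, hQ⟩
    have hlt := Groth.Agent.S17788.result A hA 2 hpure B hinj q.asIdeal hq fun q' hq'p hle hq' => by
      by_contra hne
      exact hmin ⟨q', hq'p⟩ hq' (Ideal.height_strict_mono_of_isPrime_of_isPrime (lt_of_le_of_ne hle hne))
    rw [Lib.Dim.Integral.height_eq_height_under (R := A) q.asIdeal] at hlt
    exact hq (hcodim q.asIdeal (Order.le_of_lt_add_one (by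
      rw [one_add_one_eq_two]
      exact_mod_cast hlt)))
  haveI : Algebra.FinitePresentation A B := Algebra.FinitePresentation.of_finiteType.mp inferInstance
  haveI : Algebra.FormallyEtale A B := Algebra.etaleLocus_eq_univ_iff.mp (Set.eq_univ_of_forall fun Q =>
    haveI := hunr Q; PurityNormal.mem_etaleLocus A B hinj Q)
  haveI : Algebra.Etale A B := ⟨inferInstance, inferInstance⟩
  haveI : Module.Free A B := Module.free_of_flat_of_isLocalRing
  let bas := Module.Free.chooseBasis A B
  -- a unit coordinate of one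
  obtain ⟨k, hk⟩ : ∃ k, IsUnit (bas.repr 1 k) := by
    by_contra hc
    push Not at hc
    have h1 : (1 : B) ∈ (maximalIdeal A).map (algebraMap A B) := by
      rw [← bas.sum_repr 1]
      exact Submodule.sum_mem _ fun i _ => by
        rw [Algebra.smul_def]
        exact Ideal.mul_mem_right _ _ (Ideal.mem_map_of_mem _ (hc i))
    exact (maximalIdeal.isMaximal A).ne_top ((Ideal.map_eq_top_iff (algebraMap A B) hinj
      Algebra.IsIntegral.isIntegral).mp ((Ideal.eq_top_iff_one _).mpr h1))
  obtain ⟨⟨d, hd⟩, hz⟩ : ∃ d : {d : A // d ≠ 0}, IsIntegral A ((d : A) • αL) := by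
    obtain ⟨d, hd, hd'⟩ := (IsAlgebraic.exists_integral_multiple (R := A) (z := αL)
      ((IsFractionRing.isAlgebraic_iff A K L).mpr (Algebra.IsAlgebraic.isAlgebraic αL)))
    exact ⟨⟨d, hd⟩, hd'⟩
  obtain ⟨⟨d', hd'⟩, hz'⟩ : ∃ d : {d : A // d ≠ 0}, IsIntegral A ((d : A) • αL⁻¹) := by
    obtain ⟨d, hd, hd'⟩ := (IsAlgebraic.exists_integral_multiple (R := A) (z := αL⁻¹)
      ((IsFractionRing.isAlgebraic_iff A K L).mpr (Algebra.IsAlgebraic.isAlgebraic αL⁻¹)))
    exact ⟨⟨d, hd⟩, hd'⟩
  let z : B := ⟨_, hz⟩
  let z' : B := ⟨_, hz'⟩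
  have hdK : ∀ e : A, e ≠ 0 → algebraMap A K e ≠ 0 := fun e he h =>
    he (IsFractionRing.injective A K (h.trans (map_zero _).symm))
  -- coordinates at a prime
  have hcoord : ∀ (p : Ideal A), p.IsPrime → ∀ (b : K) (u v : A), u ∉ p → v ∉ p → b ≠ 0 →
      algebraMap A K v * (a / b ^ s) = algebraMap A K u →
      (∀ i, ∃ x t, t ∉ p ∧ algebraMap A K t * (algebraMap A K (bas.repr z i) / (algebraMap A K d * b)) = algebraMap A K x) ∧
      (∀ i, ∃ x t, t ∉ p ∧ algebraMap A K t * (algebraMap A K (bas.repr z' i) * b / algebraMap A K d') = algebraMap A K x) := by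
    intro p _ b u v hu hv hb huv
    obtain ⟨b1, b2, hb2, rfl⟩ := IsFractionRing.div_surjective (A := A) b
    have hb20 := hdK b2 (nonZeroDivisors.ne_zero hb2)
    have hb10 : algebraMap A K b1 ≠ 0 := fun e => hb (by rw [e, zero_div])
    have huv' : algebraMap A K u * ((algebraMap A K b1 / algebraMap A K b2) ^ s / a) = algebraMap A K v := by
      rw [← huv]; field_simp
    have hne : ∀ e : K, e ≠ 0 → algebraMap K L e ≠ 0 := fun e he => (_root_.map_ne_zero _).mpr he
    constructor
    · let β : B := ⟨algebraMap A L v * αL / algebraMap K L (algebraMap A K b1 / algebraMap A K b2),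
        IsIntegral.of_pow hs (hβ _ u v huv hb ▸ isIntegral_algebraMap)⟩
      have key : (v * b2) • z = (d * b1) • β := Subtype.ext (by
        show (v * b2) • (d • αL) = (d * b1) • (β : L)
        simp only [β, Algebra.smul_def, map_mul, map_div₀, ← IsScalarTower.algebraMap_apply A K L]
        field_simp [show algebraMap A L b2 ≠ 0 by rw [IsScalarTower.algebraMap_apply A K L]; exact hne _ hb20,
          show algebraMap A L b1 ≠ 0 by rw [IsScalarTower.algebraMap_apply A K L]; exact hne _ hb10])
      intro i
      refine ⟨bas.repr β i, v, hv, ?_⟩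
      have := congrArg (fun y => algebraMap A K (bas.repr y i)) key
      simp only [map_smul, Finsupp.smul_apply, smul_eq_mul, map_mul] at this
      field_simp [hdK d hd]
      linear_combination this
    · have hβ' : (algebraMap A L u * algebraMap K L (algebraMap A K b1 / algebraMap A K b2) / αL) ^ s =
          algebraMap A L (u ^ (s - 1) * v) := by
        rw [div_pow, mul_pow, hαL, IsScalarTower.algebraMap_apply A K L u, IsScalarTower.algebraMap_apply A K L]
        simp only [← map_pow, ← map_mul, ← map_div₀]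
        congr 1
        simp only [map_mul, map_pow]
        rw [← huv', ← mul_assoc, ← pow_succ, Nat.sub_add_cancel hs, mul_div_assoc]
      let β : B := ⟨algebraMap A L u * algebraMap K L (algebraMap A K b1 / algebraMap A K b2) / αL,
        IsIntegral.of_pow hs (hβ' ▸ isIntegral_algebraMap)⟩
      have key : (u * b1) • z' = (d' * b2) • β := Subtype.ext (by
        show (u * b1) • (d' • αL⁻¹) = (d' * b2) • (β : L)
        simp only [β, Algebra.smul_def, map_mul, map_div₀, ← IsScalarTower.algebraMap_apply A K L]
        field_simp [show algebraMap A L b2 ≠ 0 by rw [IsScalarTower.algebraMap_apply A K L]; exact hne _ hb20])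
      intro i
      refine ⟨bas.repr β i, u, hu, ?_⟩
      have := congrArg (fun y => algebraMap A K (bas.repr y i)) key
      simp only [map_smul, Finsupp.smul_apply, smul_eq_mul, map_mul] at this
      field_simp [hdK d' hd']
      linear_combination this
  let w : _ → _ → K := fun i j =>
    algebraMap A K (bas.repr z i) * algebraMap A K (bas.repr z' j) / (algebraMap A K d * algebraMap A K d')
  have hw : ∀ i j, ∃ e, algebraMap A K e = w i j := fun i j =>
    Lib.RefHull.NormalAlg.mem_range_of_forall_height_one (w i j) fun p hp hp1 => by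
      obtain ⟨b, hb, u, v, hu, hv, huv⟩ := h p hp hp1
      obtain ⟨h1, h2⟩ := hcoord p hp b u v hu hv hb huv
      obtain ⟨x, t, ht, hx⟩ := h1 i
      obtain ⟨x', t', ht', hx'⟩ := h2 j
      refine ⟨x * x', t * t', fun hm => (hp.mem_or_mem hm).elim ht ht', ?_⟩
      rw [map_mul, map_mul, ← hx, ← hx']
      have := hdK d hd
      have := hdK d' hd'
      simp only [w]
      field_simp
  choose e he using hw
  obtain ⟨i, j, hij⟩ : ∃ i j, IsUnit (e i j) := by
    by_contra hc
    push Not at hc
    have hzz : z * z' = algebraMap A B (d * d') := Subtype.ext (by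
      show (d • αL) * (d' • αL⁻¹) = algebraMap A L (d * d')
      rw [smul_mul_smul_comm, mul_inv_cancel₀ hαL0, Algebra.algebraMap_eq_smul_one])
    have h1 := congrArg (fun y => bas.repr y k) hzz
    simp only [Algebra.algebraMap_eq_smul_one, map_smul, Finsupp.smul_apply, smul_eq_mul] at h1
    rw [← bas.sum_repr z, ← bas.sum_repr z', Finset.sum_mul_sum, map_sum, Finsupp.finsetSum_apply] at h1
    simp only [map_sum, Finsupp.finsetSum_apply, smul_mul_smul_comm, map_smul, Finsupp.smul_apply, smul_eq_mul] at h1
    have h2 : bas.repr 1 k = ∑ i, ∑ j, e i j * bas.repr (bas i * bas j) k := by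
      apply IsFractionRing.injective A K
      have hne : algebraMap A K d * algebraMap A K d' ≠ 0 := mul_ne_zero (hdK d hd) (hdK d' hd')
      apply mul_left_cancel₀ hne
      have h3 := congrArg (algebraMap A K) h1
      simp only [map_mul, map_sum] at h3 ⊢
      rw [← h3, Finset.mul_sum]
      refine Finset.sum_congr rfl fun i _ => ?_
      rw [Finset.mul_sum]
      refine Finset.sum_congr rfl fun j _ => ?_
      rw [he i j, ← mul_assoc]
      simp only [w]
      rw [mul_div_cancel₀ _ hne]
    refine (show bas.repr 1 k ∈ maximalIdeal A → False from fun hm => hm hk) ?_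
    rw [h2]
    exact Submodule.sum_mem _ fun i _ => Submodule.sum_mem _ fun j _ => Ideal.mul_mem_right _ _ (hc i j)
  have hwu : w i j ≠ 0 := by rw [← he]; exact (hij.map (algebraMap A K)).ne_zero
  have hzi : algebraMap A K (bas.repr z i) ≠ 0 := fun e0 => hwu (by simp [w, e0])
  refine ⟨algebraMap A K (bas.repr z i) / algebraMap A K d, div_ne_zero hzi (hdK d hd), ?_⟩
  intro p hp hp1 b hb ⟨u, v, hu, hv, huv⟩
  obtain ⟨h1, h2⟩ := hcoord p hp b u v hu hv hb huv
  obtain ⟨x, t, ht, hx⟩ := h1 i
  obtain ⟨x', t', ht', hx'⟩ := h2 j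
  obtain ⟨e', he'⟩ := hij.exists_left_inv
  refine mem_of_unit_mul p (a₁ := x) (a₂ := x' * e') ht ht' (y := algebraMap A K (bas.repr z' j) * b / algebraMap A K d' * algebraMap A K e') ?_ ?_ ?_
  · rw [← hx]; field_simp
  · rw [map_mul, ← hx']; ring
  · have h4 : w i j * algebraMap A K e' = 1 := by rw [← he, ← map_mul, mul_comm, he', map_one]
    rw [← h4]
    simp only [w]
    field_simp

end Groth.Agent.H99.ClassTorsion
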