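import Groth.Agent.H99.GaloisCpl
import Mathlib.FieldTheory.SeparableClosure

/-!
# The completion of a localized finite algebra is spanned by the algebra
-/

set_option autoImplicit false

universe u

open IsLocalRing

namespace Groth.Agent.H99.CplSpan

theorem map_compat {R S : Type u} [CommRing R] [IsLocalRing R] [CommRing S] [IsLocalRing S]
    (f : R →+* S) (hf : maximalIdeal R ≤ (maximalIdeal S).comap f) {m n : ℕ} (hle : m ≤ n) :
    (Ideal.Quotient.factorPow (maximalIdeal S) hle).comp
        ((Ideal.quotientMap (maximalIdeal S ^ n) f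
          ((Ideal.pow_right_mono hf n).trans (Ideal.le_comap_pow f n))).comp
            (AdicCompletion.evalₐ (maximalIdeal R) n).toRingHom) =
      (Ideal.quotientMap (maximalIdeal S ^ m) f
        ((Ideal.pow_right_mono hf m).trans (Ideal.le_comap_pow f m))).comp
          (AdicCompletion.evalₐ (maximalIdeal R) m).toRingHom := by
      ext x
      obtain ⟨s, rfl⟩ := AdicCompletion.mk_surjective (maximalIdeal R) R x
      simp only [RingHom.comp_apply, AlgHom.toRingHom_eq_coe, RingHom.coe_coe, AdicCompletion.evalₐ_mk]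
      show Ideal.Quotient.mk (maximalIdeal S ^ m) (f (s.val n)) =
        Ideal.Quotient.mk (maximalIdeal S ^ m) (f (s.val m))
      rw [Ideal.Quotient.mk_eq_mk_iff_sub_mem, ← map_sub]
      refine Ideal.le_comap_pow f m (Ideal.pow_right_mono hf m ?_)
      have := SModEq.sub_mem.mp (s.property hle).symm
      rwa [smul_eq_mul, Ideal.mul_top] at this

/-- The map of completions induced by a ring map sending the maximal ideal into the maximal ideal. -/
noncomputable def map {R S : Type u} [CommRing R] [IsLocalRing R] [CommRing S] [IsLocalRing S]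
    (f : R →+* S) (hf : maximalIdeal R ≤ (maximalIdeal S).comap f) : EGA4.Cpl R →+* EGA4.Cpl S :=
  AdicCompletion.liftRingHom (maximalIdeal S)
    (fun n => (Ideal.quotientMap (maximalIdeal S ^ n) f
      ((Ideal.pow_right_mono hf n).trans (Ideal.le_comap_pow f n))).comp
        (AdicCompletion.evalₐ (maximalIdeal R) n).toRingHom)
    (map_compat f hf)

theorem map_algebraMap {R S : Type u} [CommRing R] [IsLocalRing R] [CommRing S] [IsLocalRing S]
    (f : R →+* S) (hf : maximalIdeal R ≤ (maximalIdeal S).comap f) (r : R) :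
    map f hf (algebraMap R (EGA4.Cpl R) r) = algebraMap S (EGA4.Cpl S) (f r) :=
  AdicCompletion.ext_evalₐ fun n => by
    delta map
    rw [AdicCompletion.evalₐ_liftRingHom _ _ (map_compat f hf), RingHom.comp_apply]
    change Ideal.quotientMap _ f _ (AdicCompletion.evalₐ (maximalIdeal R) n (algebraMap R _ r)) = _
    rw [AlgHom.commutes, AlgHom.commutes]
    rfl

variable (R B A : Type u) [CommRing R] [IsLocalRing R] [IsNoetherianRing R] [CommRing B] [Algebra R B]
  [Module.Finite R B] (Q : Ideal B) [Q.IsMaximal] [Q.LiesOver (maximalIdeal R)] [CommRing A] [IsLocalRing A]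
  [Algebra B A] [IsLocalization.AtPrime A Q]

/-- Near the chosen maximal ideal the two filtrations agree. -/
theorem exists_cut (k : ℕ) : ∃ (N : ℕ) (w : B), w ∉ Q ∧
    ∀ z : B, algebraMap B A z ∈ maximalIdeal A ^ N →
      w * z ∈ (maximalIdeal R ^ k).map (algebraMap R B) := by
  have : IsNoetherianRing B := IsNoetherianRing.of_finite R B
  obtain ⟨N, hN⟩ := GaloisCpl.exists_mul_mem (maximalIdeal R) Q k
  refine ⟨N, ?_⟩
  let e : Localization.AtPrime Q ≃ₐ[B] A := IsLocalization.algEquiv Q.primeCompl _ _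
  have hN' : ∀ z : B, algebraMap B A z ∈ maximalIdeal A ^ N →
      ∃ w : B, w ∉ Q ∧ w * z ∈ (maximalIdeal R ^ k).map (algebraMap R B) := fun z hz => hN z (by
    rw [← IsLocalization.AtPrime.map_eq_maximalIdeal Q A, ← Ideal.map_pow,
      IsLocalization.mem_map_algebraMap_iff Q.primeCompl A] at hz
    rw [← Localization.AtPrime.map_eq_maximalIdeal, ← Ideal.map_pow,
      IsLocalization.mem_map_algebraMap_iff Q.primeCompl (Localization.AtPrime Q)]
    obtain ⟨p, hp⟩ := hz
    exact ⟨p, e.injective (by rw [map_mul, e.commutes, e.commutes, e.commutes, hp])⟩)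
  let I := (maximalIdeal A ^ N).comap (algebraMap B A)
  obtain ⟨g, hg⟩ := IsNoetherian.noetherian I
  choose w hw hw' using fun z : g => hN' z.1 (hg ▸ Ideal.subset_span z.2 : z.1 ∈ I)
  refine ⟨∏ z : g, w z, fun h => ?_, fun z hz => ?_⟩
  · obtain ⟨z, -, hz⟩ := (Ideal.IsPrime.prod_mem_iff (p := Q)).mp h
    exact hw z hz
  · have : I ≤ Submodule.comap (LinearMap.mulLeft B (∏ z : g, w z))
        ((maximalIdeal R ^ k).map (algebraMap R B)) := by
      rw [← hg]
      refine Submodule.span_le.mpr ?_
      intro y hy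
      obtain ⟨v, hv⟩ := Finset.dvd_prod_of_mem w (Finset.mem_univ (⟨y, hy⟩ : g))
      show (∏ z : g, w z) * y ∈ (maximalIdeal R ^ k).map (algebraMap R B)
      rw [hv, mul_comm (w _), mul_assoc]
      exact Ideal.mul_mem_left _ _ (hw' ⟨y, hy⟩)
    exact this hz

include Q in
/-- Every element of the completion is a combination of a generating family of `B` with
coefficients in the completion of `R`. -/
theorem exists_sum (φ : EGA4.Cpl R →+* EGA4.Cpl A) [IsNoetherianRing A]
    (hφ : ∀ r, φ (algebraMap R _ r) = algebraMap A _ (algebraMap B A (algebraMap R B r)))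
    (g : Finset B) (hg : Submodule.span R (g : Set B) = ⊤) (x : EGA4.Cpl A) :
    ∃ L : g → EGA4.Cpl R, x = ∑ e : g, φ (L e) * algebraMap A _ (algebraMap B A e.1) := by
  classical
  let M := maximalIdeal (EGA4.Cpl A)
  let ψ : B →+* EGA4.Cpl A := (algebraMap A (EGA4.Cpl A)).comp (algebraMap B A)
  have hψQ : ∀ b ∈ Q, algebraMap B A b ∈ maximalIdeal A := fun b hb =>
    (IsLocalization.AtPrime.to_map_mem_maximal_iff A Q b).mpr hb
  have hφM : ∀ (n : ℕ) (y : EGA4.Cpl R), y ∈ maximalIdeal (EGA4.Cpl R) ^ n → φ y ∈ M ^ n := fun n y hy => by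
    have hle : (maximalIdeal (EGA4.Cpl R)).map φ ≤ M := by
      rw [AdicCompletion.maximalIdeal_eq_map, Ideal.map_map, Ideal.map_le_iff_le_comap]
      intro r hr
      show φ (algebraMap R _ r) ∈ M
      rw [hφ, ← pow_one M, GaloisCpl.of_mem_pow_iff, pow_one]
      exact hψQ _ ((Ideal.mem_of_liesOver Q (maximalIdeal R) r).mp hr)
    have h := Ideal.mem_map_of_mem φ hy
    rw [Ideal.map_pow] at h
    exact Ideal.pow_right_mono hle n h
  choose N w hw hwN using exists_cut R B A Q
  let W : ℕ → B := fun n => ∏ k ∈ Finset.range (n + 1), w k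
  have hW : ∀ n, W n ∉ Q := fun n h => by
    obtain ⟨k, -, hk⟩ := (Ideal.IsPrime.prod_mem_iff (p := Q)).mp h
    exact hw k hk
  let N' : ℕ → ℕ := fun n => max n ((Finset.range (n + 1)).sup N)
  have hN'n : ∀ n, n ≤ N' n := fun n => le_max_left _ _
  have hN'N : ∀ k n, k ≤ n → N k ≤ N' n := fun k n h =>
    le_max_of_le_right (Finset.le_sup (f := N) (Finset.mem_range.mpr (Nat.lt_succ_of_le h)))
  -- approximations inside `B`, supported near `Q`
  have happ : ∀ n, ∃ b : B, W n ∣ b ∧ x - ψ b ∈ M ^ N' n := fun n => by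
    obtain ⟨a, ha⟩ := Ideal.Quotient.mk_surjective (AdicCompletion.evalₐ (maximalIdeal A) (N' n) x)
    obtain ⟨b, ⟨s, hs⟩, rfl⟩ := IsLocalization.exists_mk'_eq Q.primeCompl a
    have hsW : W n * s ∉ Q := fun h => (‹Q.IsMaximal›.isPrime.mem_or_mem h).elim (hW n) hs
    have htop : Ideal.span {W n * s} ⊔ Q ^ N' n = ⊤ := Ideal.sup_pow_eq_top (by
      by_contra hne
      refine hsW ?_
      have : Q = Ideal.span {W n * s} ⊔ Q := ‹Q.IsMaximal›.eq_of_le hne le_sup_right
      rw [this]
      exact Ideal.mem_sup_left (Ideal.mem_span_singleton_self _))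
    obtain ⟨u, hu, v, hv, huv⟩ := Submodule.mem_sup.mp ((Ideal.eq_top_iff_one _).mp htop)
    obtain ⟨c, rfl⟩ := Ideal.mem_span_singleton'.mp hu
    refine ⟨c * W n * b, ⟨c * b, by ring⟩, ?_⟩
    rw [← GaloisCpl.ker_eval, RingHom.mem_ker, map_sub, sub_eq_zero]
    change AdicCompletion.evalₐ _ (N' n) x =
      AdicCompletion.evalₐ _ (N' n) (algebraMap A _ (algebraMap B A (c * W n * b)))
    rw [AlgHom.commutes, ← ha, Ideal.Quotient.algebraMap_eq, Ideal.Quotient.mk_eq_mk_iff_sub_mem]
    have h1 : algebraMap B A v ∈ maximalIdeal A ^ N' n := by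
      rw [← IsLocalization.AtPrime.map_eq_maximalIdeal Q A, ← Ideal.map_pow]
      exact Ideal.mem_map_of_mem _ hv
    have h2 : IsLocalization.mk' A b (⟨s, hs⟩ : Q.primeCompl) - algebraMap B A (c * W n * b) =
        IsLocalization.mk' A b (⟨s, hs⟩ : Q.primeCompl) * algebraMap B A v := by
      have hb := IsLocalization.mk'_spec A b (⟨s, hs⟩ : Q.primeCompl)
      have hv' : algebraMap B A v = 1 - algebraMap B A (c * (W n * s)) := by
        rw [← map_one (algebraMap B A), ← map_sub, ← huv, add_sub_cancel_left]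
      rw [hv', map_mul, map_mul, map_mul, map_mul]
      linear_combination (algebraMap B A c * algebraMap B A (W n)) * hb
    rw [h2]
    exact Ideal.mul_mem_left _ _ h1
  choose b hbW hb using happ
  have hdiff : ∀ n, b (n + 1) - b n ∈ (maximalIdeal R ^ n).map (algebraMap R B) := fun n => by
    have h1 : algebraMap B A (b (n + 1) - b n) ∈ maximalIdeal A ^ N n := by
      rw [← GaloisCpl.of_mem_pow_iff, map_sub, map_sub]
      have ha := Ideal.pow_le_pow_right (hN'N n (n + 1) (Nat.le_succ n)) (hb (n + 1))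
      have hb' := Ideal.pow_le_pow_right (hN'N n n le_rfl) (hb n)
      have := (M ^ N n).sub_mem hb' ha
      rwa [sub_sub_sub_cancel_left] at this
    have hd1 : w n ∣ b n := (Finset.dvd_prod_of_mem w (Finset.self_mem_range_succ n)).trans (hbW n)
    have hd2 : w n ∣ b (n + 1) := (Finset.dvd_prod_of_mem w
      (Finset.mem_range.mpr (by omega))).trans (hbW (n + 1))
    -- the difference lies in `(w n) ⊓ (Q-adic)`, hence in their product
    obtain ⟨d, hd⟩ := dvd_sub hd2 hd1
    have h2 : algebraMap B A d ∈ maximalIdeal A ^ N n := by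
      rw [hd, map_mul] at h1
      exact (Ideal.unit_mul_mem_iff_mem _ (IsLocalization.map_units A (⟨w n, hw n⟩ : Q.primeCompl))).mp h1
    rw [hd]
    exact hwN n d h2
  -- coefficients
  have hcoef : ∀ (k : ℕ) (z : B), z ∈ (maximalIdeal R ^ k).map (algebraMap R B) →
      ∃ c : g → R, (∀ e, c e ∈ maximalIdeal R ^ k) ∧ z = ∑ e : g, c e • e.1 := fun k z hz => by
    have hz' : z ∈ maximalIdeal R ^ k • Submodule.span R (Set.range fun e : g => e.1) := by
      rw [show (Set.range fun e : g => e.1) = (g : Set B) from Subtype.range_coe, hg, GaloisCpl.mem_pow_smul_top]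
      exact hz
    obtain ⟨c, hc, hsum⟩ := (Submodule.mem_ideal_smul_span_iff_exists_sum _ _ _).mp hz'
    exact ⟨c, hc, by rw [← hsum, Finsupp.sum_fintype _ _ fun e => zero_smul R e.1]⟩
  obtain ⟨c₀, -, hc₀⟩ := hcoef 0 (b 0) (by simp [Ideal.map_top])
  choose δ hδ hδs using fun n => hcoef n _ (hdiff n)
  let r : g → ℕ → R := fun e n => c₀ e + ∑ k ∈ Finset.range n, δ k e
  have hr : ∀ n, b n = ∑ e : g, r e n • e.1 := fun n => by
    induction n with
    | zero => simpa [r] using hc₀
    | succ n ih =>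
      simp only [r, Finset.sum_range_succ, ← add_assoc]
      rw [show b (n + 1) = b n + (b (n + 1) - b n) by ring, hδs n, ih, ← Finset.sum_add_distrib]
      exact Finset.sum_congr rfl fun e _ => by rw [← add_smul]
  let seq : g → AdicCompletion.AdicCauchySequence (maximalIdeal R) R := fun e =>
    AdicCompletion.AdicCauchySequence.mk _ _ (r e) fun n => by
      rw [SModEq.sub_mem, smul_eq_mul, Ideal.mul_top]
      simp only [r, Finset.sum_range_succ]
      have := (maximalIdeal R ^ n).neg_mem (hδ n e)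
      simpa using this
  refine ⟨fun e => AdicCompletion.mk _ _ (seq e), sub_eq_zero.mp
    (GaloisCpl.eq_zero_of_forall_mem_pow A _ fun n => ?_)⟩
  have h1 := Ideal.pow_le_pow_right (hN'n n) (hb n)
  have h2 : ψ (b n) = ∑ e : g, φ (algebraMap R _ (r e n)) * algebraMap A _ (algebraMap B A e.1) := by
    rw [hr n, map_sum]
    exact Finset.sum_congr rfl fun e _ => by rw [Algebra.smul_def, map_mul, hφ]; rfl
  have h3 : ∑ e : g, φ (AdicCompletion.mk _ _ (seq e)) * algebraMap A _ (algebraMap B A e.1) -
      ψ (b n) ∈ M ^ n := by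
    rw [h2, ← Finset.sum_sub_distrib]
    refine Submodule.sum_mem _ fun e _ => ?_
    rw [← sub_mul, ← map_sub]
    refine Ideal.mul_mem_right _ _ (hφM n _ ?_)
    rw [← GaloisCpl.ker_eval, RingHom.mem_ker, map_sub, sub_eq_zero]
    exact (AdicCompletion.evalₐ_mk _ n (seq e)).trans
      ((AdicCompletion.evalₐ (maximalIdeal R) n).commutes _).symm
  have := (M ^ n).sub_mem h1 h3
  rwa [sub_sub_sub_cancel_right] at this

end Groth.Agent.H99.CplSpan
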