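import Groth.Agent.S2644
import Groth.Agent.Lib.GRing.EssFinite
import Groth.Agent.Lib.Henselian.GRingHens
import Groth.Agent.Lib.NormalTensor.Formal
import Groth.Agent.Lib.RefHull.NormalAlg
import Groth.Agent.Lib.Dim.Integral
import Groth.Agent.Lib.Regular.Completion
import Groth.Agent.H99.CplSpan
import Groth.Agent.Lib.Abhyankar.Val
import Mathlib.RingTheory.IntegralClosure.GoingDown
import Mathlib.RingTheory.KrullDimension.NonZeroDivisors

/-!
# Completions of normal local rings over excellent rings
-/

set_option autoImplicit false

universe u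

open IsLocalRing

namespace Groth.Agent.H99.CplNormal

/-- The completion of a normal local domain essentially of finite type over a G-ring is a normal domain. -/
theorem isDomain_and_isIntegrallyClosed (R : Type u) [CommRing R] [IsNoetherianRing R] [IsLocalRing R]
    (hR : CAlg.IsGRing R) (A : Type u) [CommRing A] [IsDomain A] [IsNoetherianRing A] [IsLocalRing A]
    [IsIntegrallyClosed A] [Algebra R A] [Algebra.EssFiniteType R A] :
    IsDomain (EGA4.Cpl A) ∧ IsIntegrallyClosed (EGA4.Cpl A) := by
  have hgR : EGA4.HasGeomNormalFormalFibres R :=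
    (Lib.GRing.EssFinite.isNormalHom_of_isRegularHom R (EGA4.Cpl R)
      (Lib.Henselian.GRingHens.isRegularHom_cpl_of_isGRing R hR)).2
  have hgA := Lib.GRing.EssFinite.hasGeomNormalFormalFibres R hgR A
  have hn : EGA4.IsNormalRing A := fun p _ =>
    ⟨IsLocalization.isDomain_localization p.primeCompl_le_nonZeroDivisors,
      isIntegrallyClosed_of_isLocalization _ p.primeCompl p.primeCompl_le_nonZeroDivisors⟩
  have hc := (S2644.result A hgA).mp hn
  refine ⟨Lib.NormalTensor.Formal.isDomain_of_isNormalRing_local hc, ?_⟩
  have := (hc (maximalIdeal (EGA4.Cpl A))).2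
  exact IsIntegrallyClosed.of_equiv ((IsLocalization.atUnits (EGA4.Cpl A)
    (maximalIdeal (EGA4.Cpl A)).primeCompl (fun _ hx => (IsLocalRing.notMem_maximalIdeal).1 hx)
    (S := Localization.AtPrime (maximalIdeal (EGA4.Cpl A)))).toRingEquiv.symm)

/-- An element of the smaller field lying in the localization upstairs lies in the localization
downstairs. -/
theorem exists_mul_eq (C B : Type u) [CommRing C] [IsDomain C] [IsNoetherianRing C] [IsIntegrallyClosed C]
    [CommRing B] [IsDomain B] [Algebra C B] [FaithfulSMul C B] [Algebra.IsIntegral C B]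
    (Q : Ideal B) [Q.IsPrime] (a d : C) (hd : d ≠ 0) (u v : B) (hv : v ∉ Q)
    (h : algebraMap C B a * v = algebraMap C B d * u) :
    ∃ c w : C, w ∉ Q.under C ∧ a * w = d * c := by
  classical
  let n := Q.under C
  let Cn := Localization.AtPrime n
  have : IsDomain Cn := IsLocalization.isDomain_localization n.primeCompl_le_nonZeroDivisors
  have : IsIntegrallyClosed Cn :=
    isIntegrallyClosed_of_isLocalization _ n.primeCompl n.primeCompl_le_nonZeroDivisors
  have : IsNoetherianRing Cn := IsLocalization.isNoetherianRing n.primeCompl _ inferInstance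
  let K := FractionRing Cn
  have hinj : Function.Injective (algebraMap C K) := by
    rw [IsScalarTower.algebraMap_eq C Cn K]
    exact (IsFractionRing.injective Cn K).comp
      (IsLocalization.injective Cn n.primeCompl_le_nonZeroDivisors)
  have hd0 : algebraMap C K d ≠ 0 := fun e => hd (hinj (e.trans (map_zero _).symm))
  obtain ⟨z, hz⟩ := Lib.RefHull.NormalAlg.mem_range_of_forall_height_one (R := Cn) (K := K)
    (algebraMap C K a / algebraMap C K d) fun p hp _ => by
      let p' := p.comap (algebraMap C Cn)
      have : p'.IsPrime := Ideal.IsPrime.comap _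
      have hp'n : p' ≤ n := (Ideal.comap_mono (IsLocalRing.le_maximalIdeal hp.ne_top)).trans
        (IsLocalization.AtPrime.under_maximalIdeal Cn n).le
      have : Q.LiesOver n := ⟨rfl⟩
      obtain ⟨Q', hQ'Q, hQ', hQ'p⟩ := Ideal.exists_ideal_le_liesOver_of_le Q hp'n
      let L := Localization.AtPrime p'
      let K' := FractionRing C
      -- either `a/d` or `d/a` is defined at `p'`
      by_cases hcase : ∃ s : C, s ∉ p' ∧ d ∣ s * a
      · obtain ⟨s, hs, c, hc⟩ := hcase
        refine ⟨algebraMap C Cn c, algebraMap C Cn s, hs, ?_⟩
        rw [← IsScalarTower.algebraMap_apply, ← IsScalarTower.algebraMap_apply, mul_div_assoc',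
          div_eq_iff hd0, ← map_mul, ← map_mul, hc, mul_comm]
      exfalso
      have hne : p ≠ ⊥ := fun e => by simp_all
      have hp0 : p' ≠ ⊥ := by
        intro e
        refine hne (le_bot_iff.mp fun x hx => ?_)
        obtain ⟨x, s, rfl⟩ := IsLocalization.exists_mk'_eq n.primeCompl x
        have : x ∈ p' := by
          show algebraMap C Cn x ∈ p
          rw [← IsLocalization.mk'_spec Cn x s]
          exact p.mul_mem_right _ hx
        rw [e, Ideal.mem_bot] at this
        simp [this]
      have hh : p'.height ≤ 1 := by
        have : (IsLocalization.height_under n.primeCompl p) = _ := rfl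
        rw [show p'.height = p.height from IsLocalization.height_under n.primeCompl p]
        exact le_of_eq ‹p.height = 1›
      have : IsDomain L := IsLocalization.isDomain_localization p'.primeCompl_le_nonZeroDivisors
      have := Lib.Abhyankar.Val.isDVR_atPrime C p' hp0 hh
      rcases ValuationRing.dvd_total (algebraMap C L a) (algebraMap C L d) with ⟨w, hw⟩ | ⟨w, hw⟩
      · obtain ⟨c, s, rfl⟩ := IsLocalization.exists_mk'_eq p'.primeCompl w
        have e1 : (s : C) * d = a * c := IsLocalization.injective L p'.primeCompl_le_nonZeroDivisors (by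
          rw [map_mul, map_mul, hw, mul_comm (algebraMap C L s), mul_assoc, IsLocalization.mk'_spec])
        by_cases hc : c ∈ p'
        · have hcQ : algebraMap C B c ∈ Q' := (Ideal.mem_of_liesOver Q' p' c).mp hc
          have e2 : algebraMap C B d * (algebraMap C B s * v) = algebraMap C B d * (algebraMap C B c * u) := by
            have := congrArg (algebraMap C B) e1
            rw [map_mul, map_mul] at this
            linear_combination v * this + algebraMap C B c * h
          have e3 := mul_left_cancel₀
            (fun e => hd (FaithfulSMul.algebraMap_injective C B (e.trans (map_zero _).symm))) e2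
          refine (hQ'.mem_or_mem (show algebraMap C B s * v ∈ Q' from e3 ▸ Q'.mul_mem_right _ hcQ)).elim
            (fun hs => s.2 ((Ideal.mem_of_liesOver Q' p' (s : C)).mpr hs)) fun hv' => hv (hQ'Q hv')
        · exact hcase ⟨c, hc, s, by linear_combination -e1⟩
      · obtain ⟨c, s, rfl⟩ := IsLocalization.exists_mk'_eq p'.primeCompl w
        have e1 : (s : C) * a = d * c := IsLocalization.injective L p'.primeCompl_le_nonZeroDivisors (by
          rw [map_mul, map_mul, hw, mul_comm (algebraMap C L s), mul_assoc, IsLocalization.mk'_spec])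
        exact hcase ⟨s, s.2, c, e1⟩
  obtain ⟨c, w, rfl⟩ := IsLocalization.exists_mk'_eq n.primeCompl z
  refine ⟨c, w, w.2, hinj ?_⟩
  rw [eq_div_iff hd0, IsScalarTower.algebraMap_apply C Cn K d, ← map_mul] at hz
  rw [map_mul, map_mul, IsScalarTower.algebraMap_apply C Cn K (w : C),
    IsScalarTower.algebraMap_apply C Cn K d, IsScalarTower.algebraMap_apply C Cn K c, ← hz,
    ← map_mul, ← map_mul, mul_assoc, mul_left_comm, IsLocalization.mk'_spec]

/-- A finite homomorphism from a local domain to a nonzero ring of the same dimension is injective. -/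
theorem injective_of_ringKrullDim_eq (T A : Type u) [CommRing T] [IsDomain T] [IsNoetherianRing T]
    [CommRing A] [Nontrivial A] [Algebra T A] [Module.Finite T A] (hfin : ringKrullDim T ≠ ⊤)
    (h : ringKrullDim A = ringKrullDim T) : Function.Injective (algebraMap T A) := by
  rw [injective_iff_map_eq_zero]
  intro r hr
  by_contra hne
  let I := Ideal.span {r}
  let f : T ⧸ I →+* A := Ideal.Quotient.lift I (algebraMap T A) fun x hx => by
    obtain ⟨y, rfl⟩ := Ideal.mem_span_singleton'.mp hx
    rw [map_mul, hr, mul_zero]
  let := f.toAlgebra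
  have : IsScalarTower T (T ⧸ I) A := IsScalarTower.of_algebraMap_eq fun _ => rfl
  have : Module.Finite (T ⧸ I) A := Module.Finite.of_restrictScalars_finite T (T ⧸ I) A
  have h1 : ringKrullDim T ≤ ringKrullDim (T ⧸ I) := h ▸ Lib.Dim.Integral.ringKrullDim_le_of_isIntegral
  have h2 : ringKrullDim (T ⧸ I) + 1 ≤ ringKrullDim T :=
    ringKrullDim_quotient_succ_le_of_nonZeroDivisor (mem_nonZeroDivisors_of_ne_zero hne)
  have h3 : ringKrullDim T + 1 ≤ ringKrullDim T := le_trans (by gcongr) h2
  have h4 : (0 : WithBot ℕ∞) ≤ ringKrullDim T := ringKrullDim_nonneg_of_nontrivial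
  revert h3 h4 hfin
  cases ringKrullDim T with
  | bot => intro _ _ h4; simp at h4
  | coe d =>
    cases d with
    | top => intro hfin; exact absurd rfl hfin
    | coe d =>
      intro _ h3 _
      have : d + 1 ≤ d := by exact_mod_cast h3
      omega

end Groth.Agent.H99.CplNormal
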