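import Groth.Prelude.Def_EGA4b
import Groth.Agent.H30.Compl
import Groth.Agent.H80.Inertia.Separating
import Mathlib.RingTheory.IsGaloisGroup.Basic
import Mathlib.RingTheory.Invariant.Basic
import Mathlib.RingTheory.Filtration
import Mathlib.RingTheory.DedekindDomain.IntegralClosure
import Mathlib.RingTheory.Ideal.GoingUp
import Mathlib.RingTheory.QuasiFinite.Basic
import Mathlib.RingTheory.Localization.AtPrime.Basic
import Mathlib.RingTheory.AdicCompletion.LocalRing
import Mathlib.RingTheory.AdicCompletion.Noetherian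
import Mathlib.FieldTheory.Galois.IsGaloisGroup

/-!
# Galois groups of completions
-/

set_option autoImplicit false

universe u

open scoped Pointwise
open IsLocalRing

namespace Groth.Agent.H99.GaloisCpl

variable {R S G : Type u} [CommRing R] [CommRing S] [Algebra R S]
    [Group G] [Finite G] [MulSemiringAction G S] [SMulCommClass G R S]

omit [Finite G] in
theorem smul_map_pow (P : Ideal R) (k : ℕ) (g : G) {x : S}
    (hx : x ∈ (P ^ k).map (algebraMap R S)) : g • x ∈ (P ^ k).map (algebraMap R S) := by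
  have h := Ideal.mem_map_of_mem (MulSemiringAction.toRingHom G S g) hx
  rw [Ideal.map_map, show (MulSemiringAction.toRingHom G S g).comp (algebraMap R S) = algebraMap R S
    from RingHom.ext fun r => smul_algebraMap g r] at h
  exact h

theorem finite [IsDomain R] [IsDomain S] [IsNoetherianRing R] [IsIntegrallyClosed R]
    [IsIntegrallyClosed S] [FaithfulSMul R S] [IsGaloisGroup G R S] : Module.Finite R S := by
  have : Algebra.IsIntegral R S := (IsGaloisGroup.isInvariant : Algebra.IsInvariant R S G).isIntegral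
  letI := FractionRing.liftAlgebra R (FractionRing S)
  letI := IsFractionRing.mulSemiringAction G S (FractionRing S)
  have hG : IsGaloisGroup G (FractionRing R) (FractionRing S) :=
    IsGaloisGroup.to_isFractionRing G R S _ _
  have := IsGaloisGroup.isGalois G (FractionRing R) (FractionRing S)
  have := IsGaloisGroup.finiteDimensional G (FractionRing R) (FractionRing S)
  have : IsIntegralClosure S R (FractionRing S) := IsIntegralClosure.of_isIntegrallyClosed S R _
  exact IsIntegralClosure.finite R (FractionRing R) (FractionRing S) S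

/-- Near a prime, a symbolic power of the prime above is divisible by a power of the prime below. -/
theorem exists_mul_mem [IsNoetherianRing S] [Algebra.IsIntegral R S] (P : Ideal R) [P.IsPrime]
    (Q : Ideal S) [Q.IsPrime] [Q.LiesOver P] (k : ℕ) :
    ∃ N : ℕ, ∀ z : S,
      algebraMap S (Localization.AtPrime Q) z ∈ maximalIdeal (Localization.AtPrime Q) ^ N →
        ∃ w : S, w ∉ Q ∧ w * z ∈ (P ^ k).map (algebraMap R S) := by
  let T := Localization.AtPrime Q
  let J : Ideal T := ((P ^ k).map (algebraMap R S)).map (algebraMap S T)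
  have hrad : maximalIdeal T ≤ J.radical := by
    rw [Ideal.radical_eq_sInf]
    refine le_sInf fun M hM => ?_
    obtain ⟨hJM, hMp⟩ := hM
    have hle : M.comap (algebraMap S T) ≤ Q :=
      (Ideal.comap_mono (IsLocalRing.le_maximalIdeal hMp.ne_top)).trans
        Localization.AtPrime.comap_maximalIdeal.le
    have := hMp.comap (algebraMap S T)
    have h1 : (M.comap (algebraMap S T)).under R = P := by
      refine le_antisymm ((Ideal.comap_mono hle).trans (Ideal.LiesOver.over (P := Q) (p := P)).ge)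
        fun a ha => ?_
      refine (hMp.comap (algebraMap S T)).comap (algebraMap R S) |>.mem_of_pow_mem k ?_
      exact hJM (Ideal.mem_map_of_mem _ (Ideal.mem_map_of_mem _ (Ideal.pow_mem_pow ha k)))
    have h2 : M.comap (algebraMap S T) = Q := by
      by_contra hne
      have hlt := lt_of_le_of_ne hle hne
      have := Ideal.IsIntegral.comap_lt_comap (R := R) hlt
      exact this.ne (h1.trans (Ideal.LiesOver.over (P := Q) (p := P)))
    rw [← Localization.AtPrime.map_eq_maximalIdeal, Ideal.map_le_iff_le_comap]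
    exact h2.ge
  obtain ⟨N, hN⟩ := Ideal.exists_pow_le_of_le_radical_of_fg hrad (IsNoetherian.noetherian _)
  refine ⟨N, fun z hz => ?_⟩
  obtain ⟨⟨⟨a, ha⟩, s⟩, h⟩ := (IsLocalization.mem_map_algebraMap_iff Q.primeCompl T).mp (hN hz)
  rw [← map_mul] at h
  obtain ⟨c, hc⟩ := IsLocalization.exists_of_eq (M := Q.primeCompl) h
  refine ⟨c * s, (c * s).2, ?_⟩
  have : ((c : S) * s) * z = c * a := by rw [← hc]; ring
  rw [this]
  exact Ideal.mul_mem_left _ _ ha

/-- An element lying in the symbolic powers of all conjugates is divisible by a power of the prime below. -/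
theorem exists_notMem_mul_mem [IsNoetherianRing S] [Algebra.IsIntegral R S] [Algebra.IsInvariant R S G]
    (P : Ideal R) [P.IsPrime] (Q : Ideal S) [Q.IsPrime] [Q.LiesOver P] (k : ℕ) :
    ∃ N : ℕ, ∀ z : S, (∀ σ : G,
      algebraMap S (Localization.AtPrime Q) (σ • z) ∈ maximalIdeal (Localization.AtPrime Q) ^ N) →
        ∃ u : R, u ∉ P ∧ algebraMap R S u * z ∈ (P ^ k).map (algebraMap R S) := by
  obtain ⟨N, hN⟩ := exists_mul_mem P Q k
  refine ⟨N, fun z hz => ?_⟩
  by_contra hcon
  push Not at hcon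
  let J : Ideal S := Submodule.comap (LinearMap.mulRight S z) ((P ^ k).map (algebraMap R S))
  have hJ : J.comap (algebraMap R S) ≤ P := fun u hu => by
    by_contra h
    exact hcon u h hu
  obtain ⟨Q', hJQ', hQ', hQ'P⟩ := Ideal.exists_ideal_over_prime_of_isIntegral P J hJ
  obtain ⟨g, rfl⟩ := Algebra.IsInvariant.exists_smul_of_under_eq R S G Q Q'
    ((Ideal.LiesOver.over (P := Q) (p := P)).symm.trans hQ'P.symm)
  obtain ⟨w, hw, hwz⟩ := hN (g⁻¹ • z) (hz g⁻¹)
  have h := smul_map_pow P k g hwz
  rw [smul_mul', smul_inv_smul] at h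
  exact hw (Ideal.smul_mem_pointwise_smul_iff.mp (hJQ' (show g • w ∈ J from h)))

omit [Finite G] in
theorem mem_pow_smul_top (P : Ideal R) (k : ℕ) (x : S) :
    x ∈ P ^ k • (⊤ : Submodule R S) ↔ x ∈ (P ^ k).map (algebraMap R S) := by
  rw [Ideal.smul_top_eq_map]
  rfl

/-- Almost invariant elements are near invariant ones. -/
theorem exists_invariant_approx [IsNoetherianRing R] [Module.Finite R S] [Algebra.IsInvariant R S G]
    (P : Ideal R) :
    ∃ c : ℕ, ∀ (k : ℕ) (s : S), (∀ σ : G, σ • s - s ∈ (P ^ (k + c)).map (algebraMap R S)) →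
      ∃ r : R, s - algebraMap R S r ∈ (P ^ k).map (algebraMap R S) := by
  classical
  have := Fintype.ofFinite G
  let φ : S →ₗ[R] (G → S) := LinearMap.pi fun σ => DistribSMul.toLinearMap R S σ - LinearMap.id
  obtain ⟨c, hc⟩ := Ideal.exists_pow_inf_eq_pow_smul P (LinearMap.range φ)
  refine ⟨c, fun k s hs => ?_⟩
  have h1 : φ s ∈ P ^ (k + c) • (⊤ : Submodule R (G → S)) ⊓ LinearMap.range φ := by
    refine ⟨?_, s, rfl⟩
    rw [← Finset.univ_sum_single (φ s)]
    refine Submodule.sum_mem _ fun σ _ => ?_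
    have h2 : (LinearMap.single R (fun _ : G => S) σ) (φ s σ) ∈
        Submodule.map (LinearMap.single R (fun _ : G => S) σ) (P ^ (k + c) • (⊤ : Submodule R S)) :=
      Submodule.mem_map_of_mem ((mem_pow_smul_top P (k + c) _).mpr (hs σ))
    rw [Submodule.map_smul''] at h2
    exact Submodule.smul_mono le_rfl le_top h2
  rw [hc (k + c) (Nat.le_add_left c k), Nat.add_sub_cancel] at h1
  have h3 : φ s ∈ Submodule.map φ (P ^ k • ⊤) := by
    rw [Submodule.map_smul'', Submodule.map_top]
    exact Submodule.smul_mono le_rfl inf_le_right h1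
  obtain ⟨q, hq, hqs⟩ := h3
  obtain ⟨r, hr⟩ := Algebra.IsInvariant.isInvariant (A := R) (G := G) (s - q) fun σ => by
    have h4 := congrFun hqs σ
    change σ • q - q = σ • s - s at h4
    rw [smul_sub]
    linear_combination -h4
  refine ⟨r, ?_⟩
  rw [hr, sub_sub_cancel]
  exact (mem_pow_smul_top P k q).mp hq

/-- Artin–Rees for a finite injective extension. -/
theorem exists_mem_pow [IsNoetherianRing R] [Module.Finite R S] (hinj : Function.Injective (algebraMap R S))
    (P : Ideal R) :
    ∃ c : ℕ, ∀ (k : ℕ) (r : R), algebraMap R S r ∈ (P ^ (k + c)).map (algebraMap R S) → r ∈ P ^ k := by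
  obtain ⟨c, hc⟩ := Ideal.exists_pow_inf_eq_pow_smul P (LinearMap.range (Algebra.linearMap R S))
  refine ⟨c, fun k r hr => ?_⟩
  have h1 : algebraMap R S r ∈ P ^ (k + c) • (⊤ : Submodule R S) ⊓
      LinearMap.range (Algebra.linearMap R S) := ⟨(mem_pow_smul_top P (k + c) _).mpr hr, r, rfl⟩
  rw [hc (k + c) (Nat.le_add_left c k), Nat.add_sub_cancel] at h1
  have h3 : algebraMap R S r ∈ Submodule.map (Algebra.linearMap R S) (P ^ k • ⊤) := by
    rw [Submodule.map_smul'', Submodule.map_top]
    exact Submodule.smul_mono le_rfl inf_le_right h1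
  obtain ⟨q, hq, hqr⟩ := h3
  rw [← hinj hqr]
  simpa using hq

section Main

variable {R S G : Type u} [CommRing R] [CommRing S] [IsDomain R] [IsDomain S] [IsNoetherianRing R]
    [Algebra R S] [FaithfulSMul R S] [Module.Finite R S]
    [Group G] [Finite G] [MulSemiringAction G S] [SMulCommClass G R S] [IsGaloisGroup G R S]
    (P : Ideal R) [P.IsPrime] (Q : Ideal S) [Q.IsPrime] [Q.LiesOver P]

/-- The canonical map from the ring to the completed local ring. -/
noncomputable abbrev toCpl : S →+* EGA4.Cpl (Localization.AtPrime Q) :=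
  (algebraMap (Localization.AtPrime Q) (EGA4.Cpl (Localization.AtPrime Q))).comp
    (algebraMap S (Localization.AtPrime Q))

theorem ker_eval (A : Type u) [CommRing A] [IsLocalRing A] [IsNoetherianRing A] (n : ℕ) :
    RingHom.ker (AdicCompletion.evalₐ (maximalIdeal A) n).toRingHom =
      maximalIdeal (EGA4.Cpl A) ^ n := by
  rw [H30.Compl.ker_evalₐ (maximalIdeal A) (IsNoetherian.noetherian _), AdicCompletion.maximalIdeal_eq_map]

theorem of_mem_pow_iff (A : Type u) [CommRing A] [IsLocalRing A] [IsNoetherianRing A] (n : ℕ) (a : A) :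
    algebraMap A (EGA4.Cpl A) a ∈ maximalIdeal (EGA4.Cpl A) ^ n ↔ a ∈ maximalIdeal A ^ n := by
  rw [← ker_eval, RingHom.mem_ker]
  change AdicCompletion.evalₐ (maximalIdeal A) n (algebraMap A _ a) = 0 ↔ _
  rw [AlgHom.commutes, ← Ideal.Quotient.eq_zero_iff_mem]
  rfl

theorem eq_zero_of_forall_mem_pow (A : Type u) [CommRing A] [IsLocalRing A] [IsNoetherianRing A]
    (x : EGA4.Cpl A) (h : ∀ n, x ∈ maximalIdeal (EGA4.Cpl A) ^ n) : x = 0 :=
  AdicCompletion.ext_evalₐ fun n => by
    have := h n
    rw [← ker_eval, RingHom.mem_ker] at this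
    rw [map_zero]
    exact this

theorem main [IsNoetherianRing S]
    [MulSemiringAction (MulAction.stabilizer G Q) (EGA4.Cpl (Localization.AtPrime Q))]
    (hact : ∀ (g : MulAction.stabilizer G Q) (s : S), g • toCpl Q s = toCpl Q (g • s))
    [Algebra (EGA4.Cpl (Localization.AtPrime P)) (EGA4.Cpl (Localization.AtPrime Q))]
    (halg : ∀ r : R,
      algebraMap (EGA4.Cpl (Localization.AtPrime P)) (EGA4.Cpl (Localization.AtPrime Q))
        (algebraMap (Localization.AtPrime P) (EGA4.Cpl (Localization.AtPrime P))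
          (algebraMap R (Localization.AtPrime P) r)) = toCpl Q (algebraMap R S r)) :
    IsGaloisGroup (MulAction.stabilizer G Q) (EGA4.Cpl (Localization.AtPrime P))
      (EGA4.Cpl (Localization.AtPrime Q)) := by
  classical
  let RP := Localization.AtPrime P
  let SQ := Localization.AtPrime Q
  let A := EGA4.Cpl SQ
  let Rh := EGA4.Cpl RP
  let D := MulAction.stabilizer G Q
  let ι : S →+* A := toCpl Q
  let φ : Rh →+* A := algebraMap Rh A
  let φ₀ : RP →+* A := φ.comp (algebraMap RP Rh)
  let M := maximalIdeal A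
  have hinjR : Function.Injective (algebraMap R S) := FaithfulSMul.algebraMap_injective R S
  have hinv : Algebra.IsInvariant R S G := IsGaloisGroup.isInvariant
  have := hinv.isIntegral
  have hιmem : ∀ (n : ℕ) (s : S), ι s ∈ M ^ n ↔ algebraMap S SQ s ∈ maximalIdeal SQ ^ n :=
    fun n s => of_mem_pow_iff SQ n _
  have hιu : ∀ s ∉ Q, IsUnit (ι s) := fun s hs =>
    (IsLocalization.map_units SQ (⟨s, hs⟩ : Q.primeCompl)).map (algebraMap SQ A)
  have hιQ : ∀ s ∈ Q, ι s ∈ M := fun s hs => by
    rw [← pow_one M, hιmem, pow_one, ← Localization.AtPrime.map_eq_maximalIdeal]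
    exact Ideal.mem_map_of_mem _ hs
  have hιPow : ∀ (n : ℕ) (s : S), s ∈ (P ^ n).map (algebraMap R S) → ι s ∈ M ^ n := fun n s hs => by
    have hPQ : P.map (algebraMap R S) ≤ M.comap ι := Ideal.map_le_iff_le_comap.mpr fun a ha =>
      hιQ _ ((Ideal.mem_of_liesOver Q P a).mp ha)
    rw [Ideal.map_pow] at hs
    exact (Ideal.le_comap_pow ι n) (Ideal.pow_right_mono hPQ n hs)
  have hgM : ∀ (g : D) (n : ℕ) (x : A), x ∈ M ^ n → g • x ∈ M ^ n := fun g n x hx => by
    have hle : M.map (MulSemiringAction.toRingHom D A g) ≤ M := Ideal.map_le_iff_le_comap.mpr fun y hy => by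
      show g • y ∈ M
      rw [IsLocalRing.mem_maximalIdeal, mem_nonunits_iff]
      intro hu
      refine (IsLocalRing.mem_maximalIdeal y).mp hy ?_
      simpa using hu.map (MulSemiringAction.toRingHom D A g⁻¹)
    have h := Ideal.mem_map_of_mem (MulSemiringAction.toRingHom D A g) hx
    rw [Ideal.map_pow] at h
    exact Ideal.pow_right_mono hle n h
  have hφ₀R : ∀ r, φ₀ (algebraMap R RP r) = ι (algebraMap R S r) := halg
  have hφM : ∀ (n : ℕ) (y : Rh), y ∈ maximalIdeal Rh ^ n → φ y ∈ M ^ n := fun n y hy => by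
    have hle : (maximalIdeal Rh).map φ ≤ M := by
      rw [AdicCompletion.maximalIdeal_eq_map, Ideal.map_map, Ideal.map_le_iff_le_comap]
      refine (Localization.AtPrime.map_eq_maximalIdeal (I := P)).ge.trans
        (Ideal.map_le_iff_le_comap.mpr fun a ha => ?_)
      show φ₀ (algebraMap R RP a) ∈ M
      rw [hφ₀R]
      exact hιQ _ ((Ideal.mem_of_liesOver Q P a).mp ha)
    have h := Ideal.mem_map_of_mem φ hy
    rw [Ideal.map_pow] at h
    exact Ideal.pow_right_mono hle n h
  have hfix₀ : ∀ (g : D) (y : RP), g • φ₀ y = φ₀ y := fun g y => by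
    refine RingHom.congr_fun (IsLocalization.ringHom_ext P.primeCompl
      (j := (MulSemiringAction.toRingHom D A g).comp φ₀) (k := φ₀) (RingHom.ext fun r => ?_)) y
    show g • φ₀ (algebraMap R RP r) = φ₀ (algebraMap R RP r)
    rw [hφ₀R, hact]
    exact congrArg ι (smul_algebraMap (g : G) r)
  have happRh : ∀ (y : Rh) (n : ℕ), ∃ y₀ : RP, y - algebraMap RP Rh y₀ ∈ maximalIdeal Rh ^ n := fun y n => by
    obtain ⟨y₀, hy₀⟩ := Ideal.Quotient.mk_surjective (AdicCompletion.evalₐ (maximalIdeal RP) n y)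
    refine ⟨y₀, ?_⟩
    rw [← ker_eval, RingHom.mem_ker, map_sub, sub_eq_zero]
    refine hy₀.symm.trans ?_
    exact ((AdicCompletion.evalₐ (maximalIdeal RP) n).commutes y₀).symm
  have hfix : ∀ (g : D) (y : Rh), g • φ y = φ y := fun g y => by
    refine sub_eq_zero.mp (eq_zero_of_forall_mem_pow SQ _ fun n => ?_)
    obtain ⟨y₀, hy₀⟩ := happRh y n
    have h1 := hφM n _ hy₀
    rw [map_sub] at h1
    have h2 := (M ^ n).sub_mem (hgM g n _ h1) h1
    rw [smul_sub, show g • φ (algebraMap RP Rh y₀) = φ (algebraMap RP Rh y₀) from hfix₀ g y₀] at h2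
    simpa using h2
  refine ⟨⟨fun {g g'} h => ?_⟩, ⟨fun g y a => ?_⟩, ⟨fun x hx => ?_⟩⟩
  · have : IsHausdorff (maximalIdeal SQ) SQ := IsHausdorff.of_isLocalRing _ SQ (maximalIdeal.isMaximal SQ).ne_top
    have hι : Function.Injective ι :=
      (AdicCompletion.of_injective (maximalIdeal SQ) SQ).comp
        (IsLocalization.injective SQ Q.primeCompl_le_nonZeroDivisors)
    have := (inferInstance : IsGaloisGroup G R S).faithful
    refine Subtype.ext (eq_of_smul_eq_smul fun s : S => hι ?_)
    have := h (ι s)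
    rwa [hact, hact] at this
  · rw [Algebra.smul_def, Algebra.smul_def, smul_mul', hfix]
  obtain ⟨c, hc⟩ := exists_invariant_approx (G := G) (S := S) P
  obtain ⟨e, heQ, hefix, hemove⟩ := H80.Inertia.exists_decomposition_idem (G := G) Q
  let _ := Fintype.ofFinite G
  let _ := Fintype.ofFinite D
  let _ := Fintype.ofFinite (G ⧸ D)
  have key : ∀ i : ℕ, ∃ y : RP, x - φ₀ y ∈ M ^ i := by
    intro i
    obtain ⟨N, hN⟩ := exists_notMem_mul_mem (G := G) P Q (i + c)
    let n := max (max N i) 1
    have hnN : N ≤ n := (le_max_left _ _).trans (le_max_left _ _)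
    have hni : i ≤ n := (le_max_right _ _).trans (le_max_left _ _)
    -- approximate `x` by a fraction
    obtain ⟨b₀, hb₀⟩ := Ideal.Quotient.mk_surjective (AdicCompletion.evalₐ (maximalIdeal SQ) n x)
    obtain ⟨s, ⟨d, hd⟩, rfl⟩ := IsLocalization.exists_mk'_eq Q.primeCompl b₀
    have hsd : ι d * x - ι s ∈ M ^ n := by
      rw [← ker_eval, RingHom.mem_ker, map_sub, map_mul, sub_eq_zero]
      change AdicCompletion.evalₐ _ n (algebraMap SQ A (algebraMap S SQ d)) *
        AdicCompletion.evalₐ _ n x = AdicCompletion.evalₐ _ n (algebraMap SQ A (algebraMap S SQ s))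
      rw [AlgHom.commutes, AlgHom.commutes, ← hb₀, Ideal.Quotient.algebraMap_eq, ← map_mul,
        mul_comm, IsLocalization.mk'_spec]
    let dD := ∏ g : D, (g : G) • d
    let s' := s * ∏ g ∈ (Finset.univ : Finset D).erase 1, (g : G) • d
    have hdD : ∀ g : D, (g : G) • dD = dD := fun g => by
      simp only [dD, Finset.smul_prod']
      exact Finset.prod_equiv (Equiv.mulLeft g) (by simp) fun h _ => by
        rw [smul_smul]; rfl
    have hdDQ : dD ∉ Q := fun h => by
      obtain ⟨g, -, hg⟩ := (Ideal.IsPrime.prod_mem_iff (p := Q)).mp h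
      rw [H80.Inertia.smul_mem_iff (g : G) Q g.2] at hg
      exact hd hg
    have hs' : ι dD * x - ι s' ∈ M ^ n := by
      have : dD = d * ∏ g ∈ (Finset.univ : Finset D).erase 1, (g : G) • d := by
        simp only [dD]
        rw [← Finset.mul_prod_erase _ _ (Finset.mem_univ (1 : D))]
        simp
      rw [this, map_mul, map_mul]
      convert (M ^ n).mul_mem_right (ι (∏ g ∈ (Finset.univ : Finset D).erase 1, (g : G) • d)) hsd
        using 1
      ring
    have hs'g : ∀ g : D, ι ((g : G) • s' - s') ∈ M ^ n := fun g => by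
      have h1 := hgM g n _ hs'
      rw [smul_sub, smul_mul', hx g, hact, hact] at h1
      change ι ((g : G) • dD) * x - ι ((g : G) • s') ∈ M ^ n at h1
      rw [hdD] at h1
      have h2 := (M ^ n).sub_mem hs' h1
      rw [sub_sub_sub_cancel_left] at h2
      rwa [map_sub]
    -- concentrate at `Q`
    have hYmove : ∀ τ : G, τ • Q ≠ Q → ι (τ • e ^ n) ∈ M ^ n := fun τ hτ => by
      rw [smul_pow', map_pow]
      exact Ideal.pow_mem_pow (hιQ _ (hemove τ hτ)) n
    have hτ : ∀ (τ : G) (z : S), ι z ∈ M ^ n → ι (τ • (e ^ n * z)) ∈ M ^ n := fun τ z hz => by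
      rw [smul_mul', map_mul]
      by_cases h : τ • Q = Q
      · refine (M ^ n).mul_mem_left _ ?_
        have := hgM ⟨τ, h⟩ n _ hz
        rwa [hact] at this
      · exact (M ^ n).mul_mem_right _ (hYmove τ h)
    let T : S → S := fun a => ∑ q : G ⧸ D, q.out • a
    have hT : ∀ (σ : G) (a : S), ∃ f : G ⧸ D → D,
        σ • T a - T a = ∑ q : G ⧸ D, (q.out) • ((f q : G) • a - a) := fun σ a => by
      have hex : ∀ q : G ⧸ D, ∃ h : D, σ * (σ⁻¹ • q).out = q.out * h := fun q => by
        refine ⟨⟨q.out⁻¹ * (σ * (σ⁻¹ • q).out), QuotientGroup.eq.mp ?_⟩, by simp⟩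
        rw [QuotientGroup.out_eq']
        change q = σ • (QuotientGroup.mk (σ⁻¹ • q).out : G ⧸ D)
        rw [QuotientGroup.out_eq', smul_inv_smul]
      choose f hf using hex
      refine ⟨f, ?_⟩
      simp only [T, Finset.smul_sum, smul_sub, Finset.sum_sub_distrib]
      congr 1
      refine (Fintype.sum_equiv (MulAction.toPerm σ⁻¹) _ _ fun q => ?_).symm
      show q.out • (f q : G) • a = σ • (σ⁻¹ • q).out • a
      rw [smul_smul, smul_smul, hf]
    have hTat : ∀ z : S, (∀ g : D, ι ((g : G) • z - z) ∈ M ^ n) →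
        ι (T (e ^ n * z)) - ι (e ^ n * z) ∈ M ^ n := fun z hz => by
      simp only [T, map_sum]
      rw [← Finset.add_sum_erase _ _ (Finset.mem_univ ((1 : G) : G ⧸ D)), add_sub_right_comm]
      refine (M ^ n).add_mem ?_ (Submodule.sum_mem _ fun q hq => ?_)
      · have hout : ((1 : G) : G ⧸ D).out ∈ D := by
          have h := QuotientGroup.out_eq' ((1 : G) : G ⧸ D)
          rw [QuotientGroup.eq] at h
          simpa using h
        rw [← map_sub, smul_mul', smul_pow', hefix _ hout, ← mul_sub, map_mul]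
        exact (M ^ n).mul_mem_left _ (hz ⟨_, hout⟩)
      · rw [smul_mul', map_mul]
        refine (M ^ n).mul_mem_right _ (hYmove _ fun h => Finset.ne_of_mem_erase hq ?_)
        rw [← QuotientGroup.out_eq' q]
        exact QuotientGroup.eq.mpr (by simpa using D.inv_mem h)
    have hb : ∀ σ : G, σ • T (e ^ n * dD) = T (e ^ n * dD) := fun σ => by
      obtain ⟨f, hf⟩ := hT σ (e ^ n * dD)
      refine sub_eq_zero.mp (hf.trans (Finset.sum_eq_zero fun q _ => ?_))
      rw [smul_mul', smul_pow', hefix _ (f q).2, hdD, sub_self, smul_zero]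
    obtain ⟨r₀, hr₀⟩ := Algebra.IsInvariant.isInvariant (A := R) (G := G) _ hb
    have hu₀ : IsUnit (ι (algebraMap R S r₀)) := by
      have h1 := hTat dD fun g => by rw [hdD, sub_self, map_zero]; exact zero_mem _
      rw [← hr₀] at h1
      by_contra hnu
      have h2 : ι (e ^ n * dD) ∈ M := by
        have := M.sub_mem ((IsLocalRing.mem_maximalIdeal _).mpr hnu)
          (Ideal.pow_le_self (Nat.one_le_iff_ne_zero.mp (le_max_right _ _)) h1)
        rwa [sub_sub_cancel] at this
      exact (IsLocalRing.mem_maximalIdeal _).mp h2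
        (hιu _ fun h => ((‹Q.IsPrime›).mem_or_mem h).elim
          (fun h => heQ ((‹Q.IsPrime›).mem_of_pow_mem n h)) hdDQ)
    let t := T (e ^ n * s')
    have ht : ∀ σ τ : G, algebraMap S SQ (τ • (σ • t - t)) ∈ maximalIdeal SQ ^ N := fun σ τ => by
      obtain ⟨f, hf⟩ := hT σ (e ^ n * s')
      rw [← hιmem]
      refine Ideal.pow_le_pow_right hnN ?_
      rw [hf, Finset.smul_sum, map_sum]
      refine Submodule.sum_mem _ fun q _ => ?_
      rw [smul_mul', smul_pow', hefix _ (f q).2, ← mul_sub, smul_smul]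
      exact hτ _ _ (hs'g (f q))
    choose u hu hu' using fun σ => hN _ (ht σ)
    let U := ∏ σ : G, u σ
    have hU : U ∉ P := fun h => by
      obtain ⟨σ, -, hσ⟩ := (Ideal.IsPrime.prod_mem_iff (p := P)).mp h
      exact hu σ hσ
    obtain ⟨r, hr⟩ := hc i (algebraMap R S U * t) fun σ => by
      rw [smul_mul', smul_algebraMap, ← mul_sub]
      obtain ⟨v, hv⟩ := Finset.dvd_prod_of_mem u (Finset.mem_univ σ)
      rw [show U = u σ * v from hv, map_mul, mul_comm (algebraMap R S (u σ)), mul_assoc]
      exact Ideal.mul_mem_left _ _ (hu' σ)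
    have h5 : ι (algebraMap R S U) * (ι (algebraMap R S r₀) * x) - ι (algebraMap R S r) ∈ M ^ i := by
      have h1 := Ideal.pow_le_pow_right hni (hTat s' hs'g)
      have h2 := Ideal.pow_le_pow_right hni
        (hTat dD fun g => by rw [hdD, sub_self, map_zero]; exact zero_mem _)
      have h3 := Ideal.pow_le_pow_right hni hs'
      have h4 := hιPow i _ hr
      rw [← hr₀] at h2
      rw [map_sub, map_mul] at h4
      change ι t - _ ∈ _ at h1
      rw [map_mul] at h1 h2
      have := (M ^ i).add_mem h4 ((M ^ i).mul_mem_left (ι (algebraMap R S U))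
        ((M ^ i).sub_mem ((M ^ i).add_mem ((M ^ i).mul_mem_right x h2)
          ((M ^ i).mul_mem_left (ι (e ^ n)) h3)) h1))
      convert this using 1
      ring
    have hUu : IsUnit (ι (algebraMap R S U)) := hιu _ fun h => hU ((Ideal.mem_of_liesOver Q P U).mpr h)
    have hrU : r₀ ∉ P := fun h =>
      (IsLocalRing.mem_maximalIdeal _).mp (hιQ _ ((Ideal.mem_of_liesOver Q P r₀).mp h)) hu₀
    let y : RP := IsLocalization.mk' RP r
      (⟨U * r₀, fun h => (‹P.IsPrime›.mem_or_mem h).elim hU hrU⟩ : P.primeCompl)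
    have hy : φ₀ y * (ι (algebraMap R S U) * ι (algebraMap R S r₀)) = ι (algebraMap R S r) := by
      rw [← map_mul, ← map_mul, ← hφ₀R, ← hφ₀R, ← map_mul]
      congr 1
      exact IsLocalization.mk'_spec RP r _
    refine ⟨y, (Ideal.mul_unit_mem_iff_mem (M ^ i) (hUu.mul hu₀)).mp ?_⟩
    rw [sub_mul, hy]
    convert h5 using 2
    ring
  choose y hy using key
  obtain ⟨c', hc'⟩ := exists_mem_pow hinjR P
  have hcau : ∀ i : ℕ, ∃ N : ℕ, ∀ z : RP, φ₀ z ∈ M ^ N → z ∈ maximalIdeal RP ^ i := by
    intro i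
    obtain ⟨N, hN⟩ := exists_notMem_mul_mem (G := G) P Q (i + c')
    refine ⟨N, fun z hz => ?_⟩
    obtain ⟨r, ⟨w, hw⟩, rfl⟩ := IsLocalization.exists_mk'_eq P.primeCompl z
    have h1 : ι (algebraMap R S r) ∈ M ^ N := by
      rw [← hφ₀R, ← IsLocalization.mk'_spec RP r (⟨w, hw⟩ : P.primeCompl), map_mul]
      exact (M ^ N).mul_mem_right _ hz
    obtain ⟨u, hu, hu'⟩ := hN (algebraMap R S r) fun σ => by
      rw [smul_algebraMap]
      exact (hιmem N _).mp h1
    rw [← map_mul] at hu'
    have h2 : algebraMap R RP (u * r) ∈ maximalIdeal RP ^ i := by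
      rw [← Localization.AtPrime.map_eq_maximalIdeal, ← Ideal.map_pow]
      exact Ideal.mem_map_of_mem _ (hc' i _ hu')
    rw [map_mul] at h2
    rw [IsLocalization.mk'_eq_mul_mk'_one]
    exact Ideal.mul_mem_right _ _ ((Ideal.unit_mul_mem_iff_mem _
      (IsLocalization.map_units RP (⟨u, hu⟩ : P.primeCompl))).mp h2)
  choose N hN using hcau
  let N' : ℕ → ℕ := fun i => max i ((Finset.range (i + 1)).sup N)
  have hN' : ∀ i j, i ≤ j → N i ≤ N' j := fun i j h =>
    le_max_of_le_right (Finset.le_sup (f := N) (Finset.mem_range.mpr (Nat.lt_succ_of_le h)))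
  let seq : AdicCompletion.AdicCauchySequence (maximalIdeal RP) RP :=
    AdicCompletion.AdicCauchySequence.mk _ _ (fun i => y (N' i)) fun i => by
      rw [SModEq.sub_mem, smul_eq_mul, Ideal.mul_top]
      refine hN i _ ?_
      rw [map_sub]
      have h1 := Ideal.pow_le_pow_right (hN' i i le_rfl) (hy (N' i))
      have h2 := Ideal.pow_le_pow_right (hN' i (i + 1) (Nat.le_succ i)) (hy (N' (i + 1)))
      simpa using (M ^ N i).sub_mem h2 h1
  let L : Rh := AdicCompletion.mk _ _ seq
  refine ⟨L, (sub_eq_zero.mp (eq_zero_of_forall_mem_pow SQ _ fun i => ?_)).symm⟩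
  have hL : L - algebraMap RP Rh (y (N' i)) ∈ maximalIdeal Rh ^ i := by
    rw [← ker_eval, RingHom.mem_ker, map_sub, sub_eq_zero]
    exact (AdicCompletion.evalₐ_mk _ i seq).trans
      ((AdicCompletion.evalₐ (maximalIdeal RP) i).commutes _).symm
  have h1 := hφM i _ hL
  rw [map_sub] at h1
  have h2 := (M ^ i).sub_mem (Ideal.pow_le_pow_right (le_max_left i _) (hy (N' i))) h1
  simpa [φ₀] using h2

end Main

end Groth.Agent.H99.GaloisCpl
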