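import Groth.Agent.H99.GaloisCpl
import Groth.Agent.Lib.Henselian.KrasnerDVR
import Groth.Agent.Lib.Henselian.Unibranch
import Groth.Agent.Lib.Cohen.DedekindGRing
import Mathlib.FieldTheory.PrimitiveElement

/-!
# A henselian discrete valuation field and its completion have the same finite separable extensions
-/

set_option autoImplicit false
set_option linter.style.haveILetI false

universe u

open Polynomial IsLocalRing
open scoped TensorProduct

namespace Groth.Agent.H99.KrasnerField

/-- A root of a polynomial close to a polynomial with a root which is simple up to `P ^ d`. -/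
theorem exists_root {C : Type u} [CommRing C] [HenselianLocalRing C] (P : C) (hP : P ∈ maximalIdeal C)
    (d k : ℕ) (F G E : C[X]) (hG : G = F + Polynomial.C (P ^ (2 * d + 1 + k)) * E) (θ b : C)
    (hθ : F.eval θ = 0) (hb : F.derivative.eval θ * b = P ^ d) :
    ∃ ρ b', G.eval ρ = 0 ∧ G.derivative.eval ρ * b' = P ^ d := by
  let e := G.derivative.eval θ
  obtain ⟨U, hU⟩ : IsUnit (1 + b * P ^ (d + 1 + k) * E.derivative.eval θ) := by
    by_contra h
    exact (maximalIdeal.isMaximal C).ne_top ((Ideal.eq_top_iff_one _).2 (by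
      simpa using sub_mem ((mem_maximalIdeal _).2 h) (Ideal.mul_mem_right (E.derivative.eval θ) _
        (Ideal.mul_mem_left _ b (Ideal.pow_mem_of_mem _ hP (d + 1 + k) (by omega))))))
  have he : e = F.derivative.eval θ * U := by
    simp only [e, hG, derivative_add, derivative_C_mul, eval_add, eval_mul, eval_C, hU]
    linear_combination (-(E.derivative.eval θ * P ^ (d + 1 + k))) * hb
  let w := b * (U⁻¹ : Cˣ)
  have hw : e * w = P ^ d := by
    rw [he, ← hb]
    simp only [w]
    linear_combination (F.derivative.eval θ * b) * U.mul_inv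
  let ε := w ^ 2 * P ^ (1 + k) * E.eval θ
  have hε : ε ∈ maximalIdeal C :=
    Ideal.mul_mem_right _ _ (Ideal.mul_mem_left _ _ (Ideal.pow_mem_of_mem _ hP _ (by omega)))
  have hc : G.eval θ = e ^ 2 * ε := by
    simp only [hG, eval_add, eval_mul, eval_C, hθ, zero_add, ε]
    calc P ^ (2 * d + 1 + k) * E.eval θ = (P ^ d) ^ 2 * P ^ (1 + k) * E.eval θ := by ring
      _ = _ := by rw [← hw]; ring
  set q := taylor θ G with hq
  let D := q.divX.divX
  let h : C[X] := Polynomial.C ε + X + X ^ 2 * D.comp (Polynomial.C e * X)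
  have hq0 : q.coeff 0 = e ^ 2 * ε := by rw [hq, taylor_coeff_zero, hc]
  have hq1 : q.coeff 1 = e := by rw [hq, taylor_coeff_one]
  have hsplit : q = Polynomial.C (q.coeff 0) + X * Polynomial.C (q.coeff 1) + X ^ 2 * D := by
    conv_lhs => rw [← X_mul_divX_add q, ← X_mul_divX_add q.divX, coeff_divX]
    simp only [D]
    ring
  haveI : HenselianRing C (maximalIdeal C) := inferInstance
  obtain ⟨y, hy, hy0⟩ := Lib.Henselian.Roots.exists_root_lift (maximalIdeal C) h (a₀ := 0)
    (by simp only [h, eval_add, eval_C, eval_X, eval_mul, eval_pow]; simpa using hε)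
    (by simp [h])
  have hy' : ε + y + y ^ 2 * D.eval (e * y) = 0 := by
    simpa only [h, IsRoot, eval_add, eval_C, eval_X, eval_mul, eval_pow, eval_comp] using hy
  have hroot : G.eval (θ + e * y) = 0 := by
    have : q.eval (e * y) = G.eval (θ + e * y) := by rw [hq, taylor_eval, add_comm]
    rw [← this, hsplit, hq0, hq1]
    simp only [eval_add, eval_mul, eval_pow, eval_X, eval_C]
    linear_combination e ^ 2 * hy'
  obtain ⟨t, ht⟩ := sub_dvd_eval_sub (θ + e * y) θ G.derivative
  rw [sub_zero] at hy0
  obtain ⟨V, hV⟩ : IsUnit (1 + y * t) := by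
    by_contra h
    exact (maximalIdeal.isMaximal C).ne_top ((Ideal.eq_top_iff_one _).2 (by
      simpa using sub_mem ((mem_maximalIdeal _).2 h) (Ideal.mul_mem_right t _ hy0)))
  refine ⟨θ + e * y, w * (V⁻¹ : Cˣ), hroot, ?_⟩
  have h2 : G.derivative.eval (θ + e * y) = e * V := by rw [hV]; linear_combination ht
  rw [h2, ← hw]
  linear_combination (e * w) * V.mul_inv

variable (R : Type u) [CommRing R] [IsDomain R] [IsDiscreteValuationRing R] [HenselianLocalRing R]
  (K : Type u) [Field K] [Algebra R K] [IsFractionRing R K]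
  (Kh : Type u) [Field Kh] [Algebra (AdicCompletion (maximalIdeal R) R) Kh]
  [IsFractionRing (AdicCompletion (maximalIdeal R) R) Kh]
  [Algebra R Kh] [IsScalarTower R (AdicCompletion (maximalIdeal R) R) Kh]
  [Algebra K Kh] [IsScalarTower R K Kh]

include R in
/-- The field is separably closed in the completion. -/
theorem mem_range_of_isSeparable (y : Kh) (hy : IsSeparable K y) :
    y ∈ Set.range (algebraMap K Kh) := by
  let T := AdicCompletion (maximalIdeal R) R
  obtain ⟨_, _⟩ := Lib.Cohen.DedekindGRing.exists_dvr R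
  obtain ⟨a, ha0, hai⟩ := (((IsFractionRing.isAlgebraic_iff R K Kh).mpr hy.isIntegral.isAlgebraic)).exists_integral_multiple
  obtain ⟨z, hz⟩ := IsIntegrallyClosed.isIntegral_iff.mp (hai.tower_top (A := T))
  haveI : FaithfulSMul R Kh := (faithfulSMul_iff_algebraMap_injective R Kh).2 (by
    rw [IsScalarTower.algebraMap_eq R K Kh]
    exact (algebraMap K Kh).injective.comp (IsFractionRing.injective R K))
  haveI : Module.IsTorsionFree R Kh := inferInstance
  let f := minpoly R (a • y)
  have hsep : IsSeparable K (a • y) := by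
    rw [← IsScalarTower.algebraMap_smul K a y, Algebra.smul_def]
    exact Field.isSeparable_mul (isSeparable_algebraMap _) hy
  have hder : aeval (a • y) f.derivative ≠ 0 := by
    have := hsep.aeval_derivative_ne_zero (minpoly.aeval K (a • y))
    rwa [minpoly.isIntegrallyClosed_eq_field_fractions' K hai, derivative_map, aeval_map_algebraMap] at this
  have hev : ∀ p : R[X], aeval (a • y) p = algebraMap T Kh (aeval z p) := fun p => by
    rw [← hz, aeval_algebraMap_apply]
  have hz0 : aeval z f.derivative ≠ 0 := fun e => hder (by rw [hev, e, map_zero])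
  obtain ⟨ϖ, hϖ⟩ := IsDiscreteValuationRing.exists_irreducible R
  have hmT : maximalIdeal T = Ideal.span {algebraMap R T ϖ} := by
    refine AdicCompletion.maximalIdeal_eq_map.trans ((congrArg (Ideal.map _) hϖ.maximalIdeal_eq).trans
      ((Ideal.map_span _ _).trans ?_))
    rw [Set.image_singleton]
  obtain ⟨d, v, hv⟩ := IsDiscreteValuationRing.eq_unit_mul_pow_irreducible hz0
    ((IsDiscreteValuationRing.irreducible_iff_uniformizer _).mpr hmT)
  obtain ⟨c, hc⟩ := Ideal.Quotient.mk_surjective (AdicCompletion.evalₐ (maximalIdeal R) (2 * d + 1) z)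
  have hcz : algebraMap R T c - z ∈ maximalIdeal T ^ (2 * d + 1) := by
    rw [← GaloisCpl.ker_eval, RingHom.mem_ker, map_sub, sub_eq_zero]
    exact ((AdicCompletion.evalₐ (maximalIdeal R) (2 * d + 1)).commutes c).trans hc
  have hev2 : ∀ p : R[X], algebraMap R T (p.eval c) - aeval z p ∈ maximalIdeal T ^ (2 * d + 1) := fun p => by
    obtain ⟨t, ht⟩ := sub_dvd_eval_sub (algebraMap R T c) z (p.map (algebraMap R T))
    rw [eval_map, eval_map, eval₂_at_apply] at ht
    show algebraMap R T (p.eval c) - eval₂ (algebraMap R T) z p ∈ _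
    rw [ht]
    exact Ideal.mul_mem_right _ _ hcz
  have h0 : f.eval c ∈ maximalIdeal R ^ (2 * d + 1) := by
    rw [← GaloisCpl.of_mem_pow_iff]
    have := hev2 f
    rwa [show aeval z f = 0 from IsFractionRing.injective T Kh (by rw [← hev, minpoly.aeval, map_zero]), sub_zero] at this
  have h1 : f.derivative.eval c ∈ maximalIdeal R ^ d ∧ f.derivative.eval c ∉ maximalIdeal R ^ (d + 1) := by
    rw [← GaloisCpl.of_mem_pow_iff R d, ← GaloisCpl.of_mem_pow_iff R (d + 1)]
    have hd : aeval z f.derivative ∈ maximalIdeal T ^ d := by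
      rw [hv, hmT, Ideal.span_singleton_pow]
      exact Ideal.mul_mem_left _ _ (Ideal.mem_span_singleton_self _)
    have hd' : aeval z f.derivative ∉ maximalIdeal T ^ (d + 1) := by
      rw [hv, hmT, Ideal.span_singleton_pow, Ideal.mem_span_singleton, Units.dvd_mul_left, pow_succ]
      intro hdvd
      obtain ⟨x, hx⟩ := hdvd
      refine ((IsDiscreteValuationRing.irreducible_iff_uniformizer _).mpr hmT).not_isUnit
        (IsUnit.of_mul_eq_one x (mul_left_cancel₀ (pow_ne_zero d ((IsDiscreteValuationRing.irreducible_iff_uniformizer _).mpr hmT).ne_zero) ?_))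
      rw [mul_one, ← mul_assoc]
      exact hx.symm
    refine ⟨?_, fun h => hd' ?_⟩
    · have := (maximalIdeal T ^ d).add_mem (Ideal.pow_le_pow_right (show d ≤ 2 * d + 1 by omega) (hev2 f.derivative)) hd
      rwa [sub_add_cancel] at this
    · have := (maximalIdeal T ^ (d + 1)).sub_mem h (Ideal.pow_le_pow_right (show d + 1 ≤ 2 * d + 1 by omega) (hev2 f.derivative))
      rwa [sub_sub_cancel] at this
  rw [hϖ.maximalIdeal_eq, Ideal.span_singleton_pow, Ideal.mem_span_singleton] at h0
  rw [hϖ.maximalIdeal_eq, Ideal.span_singleton_pow, Ideal.span_singleton_pow, Ideal.mem_span_singleton,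
    Ideal.mem_span_singleton] at h1
  obtain ⟨x, hx⟩ := h0
  obtain ⟨u, hu⟩ := h1.1
  have huu : IsUnit u := by
    by_contra h
    have := (mem_maximalIdeal u).2 h
    rw [hϖ.maximalIdeal_eq, Ideal.mem_span_singleton] at this
    exact h1.2 (hu ▸ (pow_succ ϖ d).symm ▸ mul_dvd_mul_left _ this)
  obtain ⟨U, rfl⟩ := huu
  obtain ⟨r, hr⟩ := Lib.Henselian.KrasnerDVR.exists_root_near f c ((U⁻¹ : Rˣ) ^ 2 * ϖ * x)
    (by rw [hϖ.maximalIdeal_eq]; exact Ideal.mul_mem_right _ _ (Ideal.mul_mem_left _ _ (Ideal.mem_span_singleton_self ϖ)))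
    (by
      rw [hx, hu]
      linear_combination (-(ϖ ^ (2 * d + 1) * x * ((U : R) * (U⁻¹ : Rˣ) + 1))) * U.mul_inv)
  have hirr : Irreducible f := minpoly.irreducible hai
  obtain ⟨g, hg⟩ := (dvd_iff_isRoot.mpr hr : X - Polynomial.C r ∣ f)
  have hgu : IsUnit g := ((hirr.isUnit_or_isUnit hg).resolve_left (not_isUnit_X_sub_C r))
  have := minpoly.aeval R (a • y)
  change aeval (a • y) f = 0 at this
  rw [hg, map_mul] at this
  have h3 : a • y = algebraMap R Kh r := by
    rw [mul_eq_zero, or_iff_left ((hgu.map (aeval (a • y) : R[X] →ₐ[R] Kh)).ne_zero)] at this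
    simpa [sub_eq_zero] using this
  refine ⟨algebraMap R K r / algebraMap R K a, ?_⟩
  rw [map_div₀, ← IsScalarTower.algebraMap_apply, ← IsScalarTower.algebraMap_apply, ← h3,
    Algebra.smul_def, mul_div_cancel_left₀ _ fun h => ha0 (FaithfulSMul.algebraMap_injective R Kh
      (h.trans (map_zero _).symm))]

include R in
/-- Irreducible separable polynomials stay irreducible over the completion. -/
theorem irreducible_map (f : K[X]) (hfm : f.Monic) (hf : Irreducible f) (hs : f.Separable) :
    Irreducible (f.map (algebraMap K Kh)) := by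
  let Ω := AlgebraicClosure Kh
  obtain ⟨α, hα⟩ := IsAlgClosed.exists_aeval_eq_zero Ω f (Polynomial.degree_pos_of_irreducible hf).ne'
  have hαi : IsIntegral Kh α := Algebra.IsIntegral.isIntegral α
  let g := minpoly Kh α
  have hgd : g ∣ f.map (algebraMap K Kh) := minpoly.dvd Kh α (by rw [aeval_map_algebraMap, hα])
  have hsplit : (g.map (algebraMap Kh Ω)).Splits := IsAlgClosed.splits _
  let S := separableClosure K Ω
  have hroots : ∀ x ∈ (g.map (algebraMap Kh Ω)).roots, x ∈ S := fun x hx => by
    rw [mem_separableClosure_iff]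
    refine hs.of_dvd (minpoly.dvd K x ?_)
    have h1 := (isRoot_of_mem_roots hx).dvd (Polynomial.map_dvd (algebraMap Kh Ω) hgd)
    rw [IsRoot, map_map, ← IsScalarTower.algebraMap_eq, eval_map_algebraMap] at h1
    exact h1
  have hlift : g.map (algebraMap Kh Ω) ∈ lifts (algebraMap S Ω) := by
    rw [hsplit.eq_prod_roots_of_monic ((minpoly.monic hαi).map _)]
    refine Subsemiring.multiset_prod_mem _ _ fun p hp => ?_
    obtain ⟨x, hx, rfl⟩ := Multiset.mem_map.mp hp
    exact ⟨X - Polynomial.C ⟨x, hroots x hx⟩, by simp⟩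
  have hg : g ∈ lifts (algebraMap K Kh) := by
    rw [lifts_iff_coeff_lifts]
    intro i
    refine mem_range_of_isSeparable R K Kh _ ?_
    rw [← isSeparable_map_iff (IsScalarTower.toAlgHom K Kh Ω) (algebraMap Kh Ω).injective]
    obtain ⟨s, hs'⟩ := (lifts_iff_coeff_lifts _).mp hlift i
    rw [coeff_map] at hs'
    show IsSeparable K (algebraMap Kh Ω (g.coeff i))
    rw [← hs']
    exact mem_separableClosure_iff.mp s.2
  obtain ⟨g0, hg0, hdeg, hg0m⟩ := lifts_and_degree_eq_and_monic hg (minpoly.monic hαi)
  have hd : g0 ∣ f := (Polynomial.map_dvd_map' (algebraMap K Kh)).mp (hg0.symm ▸ hgd)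
  have heq : g0 = f := eq_of_monic_of_associated hg0m hfm
    ((hf.dvd_iff.mp hd).resolve_left fun hu => (minpoly.irreducible hαi).not_isUnit
      (show IsUnit g from hg0 ▸ hu.map (mapRingHom (algebraMap K Kh)))).symm
  rw [← heq, hg0]
  exact minpoly.irreducible hαi

include R in
/-- A finite separable extension stays a field over the completion. -/
theorem isField_tensor (L : Type u) [Field L] [Algebra K L] [FiniteDimensional K L] [Algebra.IsSeparable K L] :
    IsField (Kh ⊗[K] L) := by
  obtain ⟨α, hα⟩ := Field.exists_primitive_element K L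
  have hαi : IsIntegral K α := Algebra.IsIntegral.isIntegral α
  let f := minpoly K α
  have hirr := irreducible_map R K Kh f (minpoly.monic hαi) (minpoly.irreducible hαi)
    (Algebra.IsSeparable.isSeparable K α)
  haveI := Fact.mk hirr
  let M := AdjoinRoot (f.map (algebraMap K Kh))
  let pb : PowerBasis K L := (IntermediateField.adjoin.powerBasis hαi).map
    ((IntermediateField.equivOfEq hα).trans IntermediateField.topEquiv)
  have hgen : pb.gen = α := rfl
  let j : L →ₐ[K] M := pb.lift (AdjoinRoot.root _) (by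
    rw [hgen, show aeval (AdjoinRoot.root (f.map (algebraMap K Kh))) f =
      aeval (AdjoinRoot.root (f.map (algebraMap K Kh))) (f.map (algebraMap K Kh)) from (aeval_map_algebraMap _ _ _).symm,
      AdjoinRoot.aeval_eq, AdjoinRoot.mk_self])
  let φ : Kh ⊗[K] L →ₐ[Kh] M := Algebra.TensorProduct.lift (Algebra.ofId Kh M) j fun _ _ => Commute.all _ _
  have hφ : Function.Surjective φ := fun x => by
    have hx : x ∈ Algebra.adjoin Kh ({AdjoinRoot.root _} : Set M) := by
      rw [AdjoinRoot.adjoinRoot_eq_top]; trivial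
    exact Algebra.adjoin_le (S := φ.range) (Set.singleton_subset_iff.mpr ⟨1 ⊗ₜ pb.gen, by
      show Algebra.TensorProduct.lift _ _ _ _ = _
      rw [Algebra.TensorProduct.lift_tmul, map_one, one_mul]
      exact pb.lift_gen _ _⟩) hx
  have hM : Module.finrank Kh M = Module.finrank K L := by
    rw [(AdjoinRoot.powerBasis hirr.ne_zero).finrank, AdjoinRoot.powerBasis_dim, natDegree_map, pb.finrank,
      ← pb.natDegree_minpoly, hgen]
  haveI : FiniteDimensional Kh M := (AdjoinRoot.powerBasis hirr.ne_zero).finite
  have hbij : Function.Bijective φ := ⟨(LinearMap.injective_iff_surjective_of_finrank_eq_finrank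
    (f := φ.toLinearMap) (by rw [Module.finrank_baseChange, hM])).mpr hφ, hφ⟩
  exact MulEquiv.isField (Field.toIsField M) (RingEquiv.ofBijective φ hbij).toMulEquiv

include R in
set_option maxHeartbeats 2000000 in
set_option synthInstance.maxHeartbeats 200000 in
/-- Every finite separable extension of the completion comes from the field. -/
theorem exists_descent (M : Type u) [Field M] [Algebra Kh M] [FiniteDimensional Kh M]
    [Algebra.IsSeparable Kh M] :
    ∃ (L : Type u) (_ : CommRing L) (_ : Algebra K L) (_ : Module.Finite K L) (_ : Algebra.Etale K L),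
      Nonempty (Kh ⊗[K] L ≃ₐ[Kh] M) := by
  let T := AdicCompletion (maximalIdeal R) R
  obtain ⟨_, _⟩ := Lib.Cohen.DedekindGRing.exists_dvr R
  haveI : IsAdicComplete (maximalIdeal T) T :=
    inferInstanceAs (IsAdicComplete (maximalIdeal (AdicCompletion (maximalIdeal R) R)) (AdicCompletion (maximalIdeal R) R))
  haveI : HenselianRing T (maximalIdeal T) := IsAdicComplete.henselianRing T (maximalIdeal T)
  haveI : HenselianLocalRing T := Lib.Henselian.LocalRing.henselianLocalRing_of_henselianRing
  let : Algebra T M := ((algebraMap Kh M).comp (algebraMap T Kh)).toAlgebra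
  haveI : IsScalarTower T Kh M := IsScalarTower.of_algebraMap_eq fun x => rfl
  haveI : Module.IsTorsionFree T M := Module.IsTorsionFree.trans_faithfulSMul T Kh M
  obtain ⟨ϖ, hϖ⟩ := IsDiscreteValuationRing.exists_irreducible R
  have hmT : maximalIdeal T = Ideal.span {algebraMap R T ϖ} := by
    refine AdicCompletion.maximalIdeal_eq_map.trans ((congrArg (Ideal.map _) hϖ.maximalIdeal_eq).trans
      ((Ideal.map_span _ _).trans ?_))
    rw [Set.image_singleton]
  have hϖT : Irreducible (algebraMap R T ϖ) := (IsDiscreteValuationRing.irreducible_iff_uniformizer _).mpr hmT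
  -- the henselian ring upstairs
  let C := integralClosure T M
  haveI : IsLocalRing C := Lib.Henselian.Unibranch.isLocalRing_of_isDomain T C
  haveI : HenselianLocalRing C := Lib.Henselian.LocalRing.henselianLocalRing_of_isIntegral T C
  haveI : Algebra.IsAlgebraic T M := (IsFractionRing.comap_isAlgebraic_iff (A := T) (K := Kh)).2 inferInstance
  obtain ⟨α, hα⟩ := Field.exists_primitive_element Kh M
  obtain ⟨a, ha0, hai⟩ := (Algebra.IsAlgebraic.isAlgebraic (R := T) α).exists_integral_multiple
  let θ : C := ⟨a • α, hai⟩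
  have htop : IntermediateField.adjoin Kh {(θ : M)} = ⊤ := by
    rw [eq_top_iff, ← hα, IntermediateField.adjoin_simple_le_iff]
    have : α = (algebraMap T Kh a)⁻¹ • (θ : M) := by
      show α = _ • (a • α)
      rw [← IsScalarTower.algebraMap_smul Kh a α, smul_smul, inv_mul_cancel₀ (fun h =>
        ha0 (IsFractionRing.injective T Kh (h.trans (map_zero _).symm))), one_smul]
    rw [this]
    exact IntermediateField.smul_mem _ (IntermediateField.mem_adjoin_simple_self Kh _)
  let F := minpoly T (θ : M)
  have hFm : F.Monic := minpoly.monic hai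
  have hF : minpoly Kh (θ : M) = F.map (algebraMap T Kh) := minpoly.isIntegrallyClosed_eq_field_fractions' Kh hai
  have hn : F.natDegree = Module.finrank Kh M := by
    rw [← IntermediateField.finrank_top', ← htop, IntermediateField.adjoin.finrank (Algebra.IsIntegral.isIntegral _),
      hF, hFm.natDegree_map]
  have hval : ∀ (p : T[X]) (x : C), ((p.map (algebraMap T C)).eval x : C) = (⟨aeval (x : M) p,
      (show (aeval x p : C).1 = aeval (x : M) p from (aeval_algHom_apply C.val x p).symm) ▸ (aeval x p : C).2⟩ : C) :=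
    fun p x => Subtype.ext (by
      rw [eval_map_algebraMap]
      exact (aeval_algHom_apply C.val x p).symm)
  have hdθ : (F.derivative.map (algebraMap T C)).eval θ ≠ 0 := fun h => by
    apply (Algebra.IsSeparable.isSeparable Kh (θ : M)).aeval_derivative_ne_zero (minpoly.aeval Kh (θ : M))
    rw [hF, derivative_map, aeval_map_algebraMap]
    exact congrArg Subtype.val ((hval F.derivative θ).symm.trans h)
  obtain ⟨t, ht0, htdvd⟩ := (Algebra.IsAlgebraic.isAlgebraic (R := T) ((F.derivative.map (algebraMap T C)).eval θ)).exists_nonzero_dvd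
    (mem_nonZeroDivisors_of_ne_zero hdθ)
  obtain ⟨d, v, hv⟩ := IsDiscreteValuationRing.eq_unit_mul_pow_irreducible ht0 hϖT
  obtain ⟨b, hb⟩ : (F.derivative.map (algebraMap T C)).eval θ ∣ algebraMap T C (algebraMap R T ϖ) ^ d := by
    rw [hv, map_mul, map_pow] at htdvd
    exact ((v.map (algebraMap T C : T →* C)).isUnit.dvd_mul_left).1 htdvd
  -- a nearby polynomial over `R`
  let q : R →+* T ⧸ (maximalIdeal T ^ (2 * d + 1)) := (Ideal.Quotient.mk _).comp (algebraMap R T)
  have hq : Function.Surjective q := fun x => by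
    obtain ⟨x, rfl⟩ := Ideal.Quotient.mk_surjective x
    obtain ⟨c, hc⟩ := Ideal.Quotient.mk_surjective (AdicCompletion.evalₐ (maximalIdeal R) (2 * d + 1) x)
    refine ⟨c, (Ideal.Quotient.mk_eq_mk_iff_sub_mem _ _).mpr ?_⟩
    rw [← GaloisCpl.ker_eval, RingHom.mem_ker, map_sub, sub_eq_zero]
    exact ((AdicCompletion.evalₐ (maximalIdeal R) (2 * d + 1)).commutes c).trans hc
  haveI : Nontrivial (T ⧸ (maximalIdeal T ^ (2 * d + 1))) := Ideal.Quotient.nontrivial_iff.mpr fun h =>
    (maximalIdeal.isMaximal T).ne_top (top_le_iff.mp (h ▸ Ideal.pow_le_self (by omega)))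
  obtain ⟨h, hh, hhd, hhm⟩ := lifts_and_degree_eq_and_monic (f := q)
    ((lifts_iff_coeff_lifts (F.map (Ideal.Quotient.mk _))).mpr fun i => hq _) (hFm.map _)
  have hhn : h.natDegree = F.natDegree := (natDegree_eq_of_degree_eq hhd).trans (hFm.natDegree_map _)
  let H := h.map (algebraMap R T)
  obtain ⟨E, hE⟩ : Polynomial.C ((algebraMap R T ϖ) ^ (2 * d + 1)) ∣ H - F := by
    rw [C_dvd_iff_dvd_coeff]
    intro i
    rw [← Ideal.mem_span_singleton, ← Ideal.span_singleton_pow, ← hmT, coeff_sub,
      ← Ideal.Quotient.mk_eq_mk_iff_sub_mem]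
    have := congrArg (fun p => Polynomial.coeff p i) hh
    simp only [coeff_map] at this
    simpa [H, coeff_map, q] using this
  let P := algebraMap T C (algebraMap R T ϖ)
  have hPm : P ∈ maximalIdeal C := fun hu => hϖT.not_isUnit
    ((Algebra.IsIntegral.isLocalHom (R := T) (S := C)).map_nonunit _ hu)
  have hG : H.map (algebraMap T C) = F.map (algebraMap T C) + Polynomial.C (P ^ (2 * d + 1 + 0)) * E.map (algebraMap T C) := by
    rw [add_zero, show H = F + Polynomial.C ((algebraMap R T ϖ) ^ (2 * d + 1)) * E by rw [← hE]; ring]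
    simp [P]
  obtain ⟨ρ, b', hρ, hb'⟩ := exists_root P hPm d 0 _ _ _ hG θ b
    (by rw [hval]; exact Subtype.ext (minpoly.aeval T (θ : M)))
    (by rw [derivative_map]; exact hb.symm)
  -- the field generated by the new root is everything
  let M' := IntermediateField.adjoin Kh {(ρ : M)}
  let : Algebra T M' := ((algebraMap Kh M').comp (algebraMap T Kh)).toAlgebra
  haveI : IsScalarTower T Kh M' := IsScalarTower.of_algebraMap_eq fun x => rfl
  haveI : IsScalarTower T M' M := IsScalarTower.of_algebraMap_eq fun x => rfl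
  haveI : Module.IsTorsionFree T M' := Module.IsTorsionFree.trans_faithfulSMul T Kh M'
  let C' := integralClosure T M'
  haveI : IsLocalRing C' := Lib.Henselian.Unibranch.isLocalRing_of_isDomain T C'
  haveI : HenselianLocalRing C' := Lib.Henselian.LocalRing.henselianLocalRing_of_isIntegral T C'
  have hint : ∀ x : M', IsIntegral T (x : M) → IsIntegral T x := fun x hx =>
    (isIntegral_algHom_iff (IsScalarTower.toAlgHom T M' M) (algebraMap M' M).injective).mp hx
  let ρ' : C' := ⟨⟨ρ, IntermediateField.mem_adjoin_simple_self Kh _⟩, hint _ ρ.2⟩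
  have hderρ : aeval (ρ : M) H.derivative * (b' : M) = algebraMap T M (algebraMap R T ϖ) ^ d := by
    have := congrArg Subtype.val hb'
    rw [derivative_map, hval] at this
    exact this
  have hbmem : (b' : M) ∈ M' := by
    have hne : aeval (ρ : M) H.derivative ≠ 0 := fun e => by
      rw [e, zero_mul] at hderρ
      exact pow_ne_zero d (fun hz => hϖT.ne_zero ((FaithfulSMul.algebraMap_injective T M) (hz.trans (map_zero _).symm))) hderρ.symm
    rw [show (b' : M) = algebraMap T M (algebraMap R T ϖ) ^ d / aeval (ρ : M) H.derivative by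
      rw [← hderρ, mul_div_cancel_left₀ _ hne]]
    refine div_mem (pow_mem (M'.algebraMap_mem (algebraMap T Kh (algebraMap R T ϖ))) d) ?_
    rw [show aeval (ρ : M) H.derivative = aeval (ρ : M) (H.derivative.map (algebraMap T Kh)) from
      (aeval_map_algebraMap Kh _ _).symm]
    exact IntermediateField.algebra_adjoin_le_adjoin Kh _ (Polynomial.aeval_mem_adjoin_singleton Kh _)
  let b'' : C' := ⟨⟨b', hbmem⟩, hint _ b'.2⟩
  have hcoe : ∀ (p : T[X]) (x : C'), (((p.map (algebraMap T C')).eval x : C') : M) = aeval ((x : M') : M) p :=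
    fun p x => by
      rw [eval_map_algebraMap]
      exact (aeval_algHom_apply ((IsScalarTower.toAlgHom T M' M).comp C'.val) x p).symm
  let P' := algebraMap T C' (algebraMap R T ϖ)
  have hPm' : P' ∈ maximalIdeal C' := fun hu => hϖT.not_isUnit
    ((Algebra.IsIntegral.isLocalHom (R := T) (S := C')).map_nonunit _ hu)
  have hG' : F.map (algebraMap T C') = H.map (algebraMap T C') + Polynomial.C (P' ^ (2 * d + 1 + 0)) * (-E).map (algebraMap T C') := by
    rw [add_zero, show H = F + Polynomial.C ((algebraMap R T ϖ) ^ (2 * d + 1)) * E by rw [← hE]; ring]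
    simp only [P', Polynomial.map_add, Polynomial.map_mul, Polynomial.map_pow, Polynomial.map_neg, map_pow, map_C]
    ring
  have hρ0 : aeval (ρ : M) H = 0 := congrArg Subtype.val ((hval H ρ).symm.trans hρ)
  obtain ⟨θ', -, hθ', -⟩ := exists_root P' hPm' d 0 _ _ _ hG' ρ' b''
    (Subtype.ext (Subtype.ext ((hcoe H ρ').trans hρ0)))
    (Subtype.ext (Subtype.ext (by
      rw [derivative_map]
      show (((H.derivative.map (algebraMap T C')).eval ρ' : C') : M) * (b' : M) = _
      rw [hcoe]
      exact hderρ)))
  have hle : Module.finrank Kh M ≤ Module.finrank Kh M' := by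
    have hroot : aeval ((θ' : M') : M) (minpoly Kh (θ : M)) = 0 := by
      rw [hF, aeval_map_algebraMap, ← hcoe, hθ']
      rfl
    have hmin : minpoly Kh (θ' : M') = minpoly Kh (θ : M) := by
      refine (minpoly.eq_of_irreducible_of_monic (minpoly.irreducible (Algebra.IsIntegral.isIntegral _)) ?_
        (minpoly.monic (Algebra.IsIntegral.isIntegral _))).symm
      exact Subtype.ext ((aeval_algHom_apply M'.val (θ' : M') _).symm.trans hroot)
    rw [← hn, show F.natDegree = (minpoly Kh (θ' : M')).natDegree by rw [hmin, hF, hFm.natDegree_map]]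
    exact minpoly.natDegree_le _
  have hρn : (minpoly Kh (ρ : M)).natDegree = Module.finrank Kh M := by
    rw [← IntermediateField.adjoin.finrank (Algebra.IsIntegral.isIntegral _)]
    exact le_antisymm M'.toSubmodule.finrank_le hle
  -- the descended field
  let f := h.map (algebraMap R K)
  have hfm : f.Monic := hhm.map _
  have hfH : f.map (algebraMap K Kh) = H.map (algebraMap T Kh) := by
    simp only [f, H, map_map, ← IsScalarTower.algebraMap_eq]
  have hmρ : minpoly Kh (ρ : M) = f.map (algebraMap K Kh) := by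
    refine (eq_of_monic_of_dvd_of_natDegree_le (minpoly.monic (Algebra.IsIntegral.isIntegral (ρ : M))) (hfm.map _)
      (minpoly.dvd Kh _ (by rw [hfH, aeval_map_algebraMap, hρ0])) ?_).symm
    rw [hρn, hfm.natDegree_map, hhm.natDegree_map, hhn, hn]
  have hirr : Irreducible f := hfm.irreducible_of_irreducible_map (algebraMap K Kh) _
    (hmρ ▸ minpoly.irreducible (Algebra.IsIntegral.isIntegral _))
  have hsep : f.Separable := by
    rw [← separable_map (algebraMap K Kh), ← hmρ]
    exact Algebra.IsSeparable.isSeparable Kh (ρ : M)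
  haveI := Fact.mk hirr
  let L := AdjoinRoot f
  haveI : Module.Finite K L := (AdjoinRoot.powerBasis hirr.ne_zero).finite
  haveI : Algebra.IsSeparable K L := by
    have := (IntermediateField.isSeparable_adjoin_simple_iff_isSeparable K L (x := AdjoinRoot.root f)).mpr
      (hsep.of_dvd (minpoly.dvd K _ (by rw [AdjoinRoot.aeval_eq, AdjoinRoot.mk_self])))
    rw [IntermediateField.adjoin_root_eq_top f] at this
    exact Algebra.IsSeparable.of_algHom K _ IntermediateField.topEquiv.symm.toAlgHom
  haveI : Algebra.FormallyEtale K L := Algebra.FormallyEtale.of_isSeparable K L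
  haveI : Algebra.Etale K L := ⟨inferInstance, Algebra.FinitePresentation.of_finiteType.mp inferInstance⟩
  let : Algebra K M := ((algebraMap Kh M).comp (algebraMap K Kh)).toAlgebra
  haveI : IsScalarTower K Kh M := IsScalarTower.of_algebraMap_eq fun x => rfl
  let j : L →ₐ[K] M := AdjoinRoot.liftAlgHom f (Algebra.ofId K M) (ρ : M) (by
    show eval₂ (algebraMap K M) (ρ : M) f = 0
    rw [← aeval_def, ← aeval_map_algebraMap Kh, ← hmρ, minpoly.aeval])
  let φ : Kh ⊗[K] L →ₐ[Kh] M := Algebra.TensorProduct.lift (Algebra.ofId Kh M) j fun _ _ => Commute.all _ _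
  have hφ : Function.Surjective φ := fun x => by
    have hM : IntermediateField.adjoin Kh {(ρ : M)} = ⊤ := by
      apply IntermediateField.eq_of_le_of_finrank_le le_top
      rw [IntermediateField.finrank_top']
      exact hle
    have hx : x ∈ Algebra.adjoin Kh ({(ρ : M)} : Set M) := by
      rw [← IntermediateField.adjoin_simple_toSubalgebra_of_isAlgebraic
        (Algebra.IsAlgebraic.isAlgebraic (R := Kh) (ρ : M)), hM]
      trivial
    exact Algebra.adjoin_le (S := φ.range) (Set.singleton_subset_iff.mpr ⟨1 ⊗ₜ AdjoinRoot.root f, by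
      show Algebra.TensorProduct.lift _ _ _ _ = _
      rw [Algebra.TensorProduct.lift_tmul, map_one, one_mul]
      exact AdjoinRoot.liftAlgHom_root _ _ _ _⟩) hx
  have hdim : Module.finrank Kh (Kh ⊗[K] L) = Module.finrank Kh M := by
    rw [Module.finrank_baseChange, (AdjoinRoot.powerBasis hirr.ne_zero).finrank, AdjoinRoot.powerBasis_dim,
      hhm.natDegree_map, hhn, hn]
  exact ⟨L, inferInstance, inferInstance, inferInstance, inferInstance, ⟨AlgEquiv.ofBijective φ
    ⟨(LinearMap.injective_iff_surjective_of_finrank_eq_finrank (f := φ.toLinearMap) hdim).mpr hφ, hφ⟩⟩⟩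

end Groth.Agent.H99.KrasnerField
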