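import Groth.Agent.Lib.Unram.Compositum
import Groth.Agent.Lib.Henselian.Sections
import Groth.Agent.Lib.Henselian.QFLocalization
import Groth.Agent.Lib.Regular.UFD
import Groth.Agent.S14457
import Mathlib.RingTheory.Ideal.Pure
import Mathlib.RingTheory.Polynomial.Eisenstein.Basic
import Mathlib.RingTheory.Polynomial.GaussLemma
import Mathlib.FieldTheory.IntermediateField.Adjoin.Basic

/-!
# Extracting a p-th root does not make a nonsplit cover extend
-/

set_option autoImplicit false

universe u

open Polynomial TensorProduct AlgebraicGeometry CategoryTheory IsLocalRing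

namespace Groth.Agent.H99.PthRoot

/-- Through each maximal ideal of a finite étale algebra over a strictly henselian ring passes a
retraction. -/
theorem exists_retraction (R : Type u) [CommRing R] [HenselianLocalRing R]
    [IsSepClosed (ResidueField R)] (S : Type u) [CommRing S] [Algebra R S] [Algebra.Etale R S]
    (q : Ideal S) [hqp : q.IsPrime] (hq : q.comap (algebraMap R S) = maximalIdeal R) :
    ∃ τ : S →ₐ[R] R, RingHom.ker τ ≤ q := by
  have : AlgebraicGeometry.Etale (Spec.map (CommRingCat.ofHom (algebraMap R S))) :=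
    (HasRingHomProperty.Spec_iff (P := @AlgebraicGeometry.Etale)).mpr
      (RingHom.etale_algebraMap.mpr ‹_›)
  obtain ⟨u, hu, hu'⟩ := Lib.Henselian.Sections.exists_section_through
    (Spec.map (CommRingCat.ofHom (algebraMap R S))) ⟨q, hqp⟩ (PrimeSpectrum.ext hq)
  obtain ⟨ψ, rfl⟩ := Spec.map_surjective u
  rw [← Spec.map_comp, ← Spec.map_id] at hu
  have hc := Spec.map_injective hu
  refine ⟨{ ψ.hom with
    commutes' := fun r => congrArg (fun g : CommRingCat.of R ⟶ _ => g.hom r) hc }, fun b hb => ?_⟩
  refine (SetLike.ext_iff.mp (congrArg PrimeSpectrum.asIdeal hu') b).mp ?_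
  show ψ.hom b ∈ maximalIdeal R
  rw [show ψ.hom b = 0 from hb]
  exact zero_mem _

/-- A pure kernel element is killed outside every prime containing the kernel. -/
theorem exists_mul_eq_zero (R : Type u) [CommRing R] (S : Type u) [CommRing S] [Algebra R S]
    [Algebra.Etale R S] (τ : S →ₐ[R] R) {x : S} (hx : τ x = 0) :
    ∃ y : S, τ y = 0 ∧ x * (1 - y) = 0 := by
  let : Algebra S R := τ.toRingHom.toAlgebra
  have : IsScalarTower R S R := IsScalarTower.of_algebraMap_eq fun r => (τ.commutes r).symm
  have : Algebra.Etale S R := Algebra.Etale.of_restrictScalars R S R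
  have hs : Function.Surjective (algebraMap S R) := fun r => ⟨algebraMap R S r, τ.commutes r⟩
  have : (RingHom.ker (algebraMap S R)).Pure :=
    Module.Flat.of_linearEquiv
      (Ideal.quotientKerAlgEquivOfSurjective (f := Algebra.ofId S R) hs).toLinearEquiv
  obtain ⟨y, hy, h⟩ := Ideal.exists_eq_mul_of_pure (I := RingHom.ker (algebraMap S R)) (x := x) hx
  exact ⟨y, hy, by rw [mul_sub, mul_one, ← h, sub_self]⟩

theorem eq_zero_of_forall_retraction (R : Type u) [CommRing R] [IsLocalRing R] (S : Type u)
    [CommRing S] [Algebra R S] [Algebra.Etale R S] [Module.Finite R S]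
    (τ : MaximalSpectrum S → (S →ₐ[R] R)) (hτ : ∀ q, RingHom.ker (τ q) ≤ q.asIdeal)
    (x : S) (hx : ∀ q, τ q x = 0) : x = 0 := by
  by_contra hne
  have hann : (Submodule.span S {x}).annihilator ≠ ⊤ := fun h => hne (by
    simpa using (Submodule.mem_annihilator_span_singleton x (1 : S)).mp (h ▸ trivial))
  obtain ⟨m, hm, hle⟩ := Ideal.exists_le_maximal _ hann
  obtain ⟨y, hy, hxy⟩ := exists_mul_eq_zero R S (τ ⟨m, hm⟩) (hx _)
  have h1 : 1 - y ∈ m := hle ((Submodule.mem_annihilator_span_singleton x _).mpr
    (by rw [smul_eq_mul, mul_comm]; exact hxy))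
  exact hm.ne_top ((Ideal.eq_top_iff_one _).mpr (by simpa using m.add_mem h1 (hτ ⟨m, hm⟩ hy)))

/-- A finite étale algebra over a domain with jointly injective sections is trivial. -/
theorem exists_algEquiv_pi (L B : Type u) [CommRing L] [IsDomain L] [CommRing B] [Algebra L B]
    [Algebra.Etale L B] {Q : Type u} [Finite Q] (χ : Q → (B →ₐ[L] L))
    (hχ : ∀ b, (∀ q, χ q b = 0) → b = 0) :
    ∃ (ι : Type u) (_ : Finite ι), Nonempty ((ι → L) ≃ₐ[L] B) := by
  classical
  let K : Q → Ideal B := fun q => RingHom.ker (χ q)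
  let ι := Set.range K
  let r : ι → Q := fun i => i.2.choose
  have hr : ∀ i : ι, K (r i) = i.1 := fun i => i.2.choose_spec
  have hcop : ∀ q q', K q ≠ K q' → IsCoprime (K q) (K q') := by
    intro q q' hne
    rw [Ideal.isCoprime_iff_sup_eq]
    by_contra h
    obtain ⟨M, hM, hle⟩ := Ideal.exists_le_maximal _ h
    have hsub : ∀ a b, K a ≤ M → K b ≤ M → K a ≤ K b := by
      intro a b ha hb x hx
      obtain ⟨y, hy, hxy⟩ := exists_mul_eq_zero L B (χ a) hx
      have : (K b).IsPrime := RingHom.ker_isPrime _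
      refine (this.mem_or_mem (x := x) (y := 1 - y) (by rw [hxy]; exact zero_mem _)).resolve_right
        fun h => hM.ne_top ((Ideal.eq_top_iff_one _).mpr ?_)
      simpa using M.add_mem (hb h) (ha hy)
    exact hne (le_antisymm (hsub q q' (le_sup_left.trans hle) (le_sup_right.trans hle))
      (hsub q' q (le_sup_right.trans hle) (le_sup_left.trans hle)))
  let Φ : B →ₐ[L] (ι → L) := Pi.algHom L _ fun i => χ (r i)
  refine ⟨ι, inferInstance, ⟨(AlgEquiv.ofBijective Φ ⟨?_, ?_⟩).symm⟩⟩
  · refine (injective_iff_map_eq_zero Φ).mpr fun b hb => hχ b fun q => ?_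
    have h : b ∈ K (r ⟨K q, q, rfl⟩) := congrFun hb ⟨K q, q, rfl⟩
    rw [hr] at h
    exact h
  · intro a
    obtain ⟨b, hb⟩ := Ideal.exists_forall_sub_mem_ideal (I := fun i => K (r i))
      (fun i j hij => hcop _ _ fun h => hij (Subtype.ext (by rw [← hr i, ← hr j, h])))
      (fun i => algebraMap L B (a i))
    refine ⟨b, funext fun i => ?_⟩
    have := hb i
    rw [RingHom.mem_ker, map_sub, AlgHom.commutes, sub_eq_zero] at this
    exact this

theorem adjoinRoot_map_injective {R K : Type u} [CommRing R] [CommRing K] (φ : R →+* K)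
    (hφ : Function.Injective φ) (g : R[X]) (hg : g.Monic) (g' : K[X]) (h : g' = g.map φ) :
    Function.Injective (AdjoinRoot.map φ g g' h.dvd) := by
  subst h
  refine (injective_iff_map_eq_zero _).mpr fun x hx => ?_
  obtain ⟨P, rfl⟩ := AdjoinRoot.mk_surjective x
  have : AdjoinRoot.map φ g (g.map φ) dvd_rfl (AdjoinRoot.mk g P) =
      AdjoinRoot.mk (g.map φ) (P.map φ) := by
    rw [AdjoinRoot.map, AdjoinRoot.lift_mk, ← AdjoinRoot.aeval_eq, aeval_def, eval₂_map]
    rfl
  rw [this, AdjoinRoot.mk_eq_zero, map_dvd_map φ hφ hg] at hx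
  exact AdjoinRoot.mk_eq_zero.mpr hx

/-- The image of an étale algebra in a radical extension of prime degree is the base. -/
theorem mem_range (p : ℕ) [Fact p.Prime] (L : Type u) [CommRing L] [IsDomain L]
    [IsIntegrallyClosed L] (a : L) (hnu : ¬ IsUnit ((p : L) * a))
    (hirr : Irreducible ((X ^ p - C a : L[X]).map (algebraMap L (FractionRing L))))
    (B : Type u) [CommRing B] [Algebra L B] [Algebra.Etale L B] [Module.Finite L B]
    (ψ : B →ₐ[L] AdjoinRoot (X ^ p - C a : L[X])) (b : B) :
    ψ b ∈ (algebraMap L (AdjoinRoot (X ^ p - C a : L[X]))).range := by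
  classical
  let g : L[X] := X ^ p - C a
  let K := FractionRing L
  let gK : K[X] := g.map (algebraMap L K)
  have hpp : p.Prime := Fact.out
  have hg : g.Monic := monic_X_pow_sub_C a hpp.ne_zero
  have : Fact (Irreducible gK) := ⟨hirr⟩
  let K₁ := AdjoinRoot gK
  let j : AdjoinRoot g →+* K₁ := AdjoinRoot.map (algebraMap L K) g gK dvd_rfl
  have hj : Function.Injective j := adjoinRoot_map_injective _ (IsFractionRing.injective L K) g hg gK rfl
  have hjof : ∀ l, j (algebraMap L _ l) = algebraMap K K₁ (algebraMap L K l) := fun l => by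
    simp [j, AdjoinRoot.map, AdjoinRoot.algebraMap_eq]
    rfl
  have : IsDomain (AdjoinRoot g) := hj.isDomain j
  have hLinj : Function.Injective (algebraMap L (AdjoinRoot g)) := fun x y h => by
    have := congrArg j h
    rw [hjof, hjof] at this
    exact IsFractionRing.injective L K ((algebraMap K K₁).injective this)
  let P : Ideal B := RingHom.ker ψ
  have : P.IsPrime := RingHom.ker_isPrime _
  have hP : P.comap (algebraMap L B) = ⊥ := le_bot_iff.mp fun x hx => by
    have h : ψ (algebraMap L B x) = 0 := hx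
    rw [AlgHom.commutes] at h
    exact hLinj (h.trans (map_zero _).symm)
  let D := ψ.range
  have hker : RingHom.ker ψ.rangeRestrict = P := by
    ext t
    exact (RingHom.mem_ker).trans ((Subtype.ext_iff (a1 := ψ.rangeRestrict t) (a2 := 0)).trans
      RingHom.mem_ker.symm)
  have hetD : Algebra.Etale L D :=
    have := Lib.Unram.Compositum.etale_quotient (R := L) P hP
    Algebra.Etale.of_equiv (A := B ⧸ P) ((Ideal.quotientEquivAlgOfEq L hker.symm).trans
        (Ideal.quotientKerAlgEquivOfSurjective (f := ψ.rangeRestrict) ψ.rangeRestrict_surjective))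
  have : IsIntegrallyClosed D := Lib.Unram.Compositum.isIntegrallyClosed_of_etale L D
  by_cases hy : j (ψ b) ∈ (algebraMap K K₁).range
  · obtain ⟨k, hk⟩ := hy
    let jₐ : AdjoinRoot g →ₐ[L] K₁ :=
      { j with commutes' := fun l => (hjof l).trans (IsScalarTower.algebraMap_apply L K K₁ l).symm }
    have hint : IsIntegral L k := (isIntegral_algebraMap_iff (algebraMap K K₁).injective).mp
      (show IsIntegral L (algebraMap K K₁ k) from hk ▸
        ((Algebra.IsIntegral.isIntegral (R := L) b).map ψ).map jₐ)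
    obtain ⟨l, rfl⟩ := IsIntegrallyClosed.isIntegral_iff.mp hint
    exact ⟨l, hj (by rw [hjof, hk])⟩
  exfalso
  have hdeg : gK.natDegree = p := by
    simp [gK, g, hg.natDegree_map]
  let pb := AdjoinRoot.powerBasis (f := gK) hirr.ne_zero
  have : FiniteDimensional K K₁ := pb.finite
  have hfr : Module.finrank K K₁ = p := by rw [pb.finrank, AdjoinRoot.powerBasis_dim, hdeg]
  have : IsSimpleOrder (IntermediateField K K₁) :=
    IntermediateField.isSimpleOrder_of_finrank_prime K K₁ (by rw [hfr]; exact hpp)
  have htop : IntermediateField.adjoin K {j (ψ b)} = ⊤ :=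
    (IsSimpleOrder.eq_bot_or_eq_top _).resolve_left fun h => hy (IntermediateField.mem_bot.mp
      (h ▸ IntermediateField.mem_adjoin_simple_self K (j (ψ b))))
  have hmem : AdjoinRoot.root gK ∈ Algebra.adjoin K {j (ψ b)} := by
    rw [← IntermediateField.adjoin_simple_toSubalgebra_of_isAlgebraic
      (Algebra.IsAlgebraic.isAlgebraic _), htop]
    trivial
  rw [Algebra.adjoin_singleton_eq_range_aeval] at hmem
  obtain ⟨R', hR'⟩ := hmem
  obtain ⟨⟨s, hs⟩, hP'⟩ := IsLocalization.integerNormalization_map_to_map (nonZeroDivisors L) R'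
  let R₀ := IsLocalization.integerNormalization (nonZeroDivisors L) R'
  let t := AdjoinRoot.root g
  have hjt : j t = AdjoinRoot.root gK := by simp [j, t, AdjoinRoot.map]
  have hd : aeval (ψ b) R₀ = algebraMap L _ s * t := by
    apply hj
    rw [map_mul, hjof, hjt, ← hR', aeval_def, hom_eval₂,
      show j.comp (algebraMap L _) = (algebraMap K K₁).comp (algebraMap L K) from RingHom.ext hjof,
      ← eval₂_map, hP']
    change eval₂ _ _ (s • R') = _ * aeval (j (ψ b)) R'
    rw [Algebra.smul_def, IsScalarTower.algebraMap_apply L K K[X] s, eval₂_mul, aeval_def]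
    simp
  let d : D := aeval ⟨ψ b, b, rfl⟩ R₀
  have hdval : (d : AdjoinRoot g) = algebraMap L _ s * t := by
    rw [← hd]
    exact (Polynomial.aeval_algHom_apply D.val _ _).symm
  have hroot : t ^ p = algebraMap L _ a := by
    have := AdjoinRoot.eval₂_root g
    simpa [g, sub_eq_zero, AdjoinRoot.algebraMap_eq] using this
  obtain ⟨e, he⟩ : algebraMap L D s ∣ d :=
    (IsIntegrallyClosed.pow_dvd_pow_iff hpp.ne_zero).mp ⟨algebraMap L D a, Subtype.ext (by
      push_cast
      rw [hdval, mul_pow, hroot])⟩
  have hs0 : algebraMap L (AdjoinRoot g) s ≠ 0 := fun h =>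
    nonZeroDivisors.ne_zero hs (hLinj (h.trans (map_zero _).symm))
  have het : (e : AdjoinRoot g) = t := by
    refine mul_left_cancel₀ hs0 ?_
    rw [← hdval, he]
    rfl
  have hDtop : D = ⊤ := by
    rw [eq_top_iff, ← AdjoinRoot.adjoinRoot_eq_top (f := g), Algebra.adjoin_le_iff,
      Set.singleton_subset_iff]
    show t ∈ D
    rw [← het]
    exact e.2
  have : Algebra.Etale L (AdjoinRoot g) :=
    Algebra.Etale.of_equiv (A := D) ((Subalgebra.equivOfEq D ⊤ hDtop).trans Subalgebra.topEquiv)
  rcases (S14457.result L a p hpp.one_le).mp this with h | h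
  · exact hpp.ne_one h
  · exact hnu h

end Groth.Agent.H99.PthRoot
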