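import Groth.Prelude.Def_SGA2
import Groth.Prelude.Def_FEt
import Groth.Agent.H99.FEtAlg.Purity
import Groth.Agent.H80.Clopen.Torsion.Duality
import Groth.Agent.S1135
import Groth.Agent.S0239
import Groth.Agent.Lib.Depth.Assoc
import Groth.Agent.Lib.Goren.Basic
import Groth.Agent.Lib.DMod.FiniteRing
import Groth.Agent.Lib.DMod.Gorenstein

/-!
# Purity lifts from a quotient by a regular element
-/

set_option autoImplicit false
set_option linter.unusedSectionVars false
set_option linter.style.haveILetI false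
set_option backward.isDefEq.respectTransparency false

noncomputable section

universe u

open CategoryTheory CategoryTheory.Limits AlgebraicGeometry IsLocalRing

namespace Groth.Agent.H99.PureLift

open Groth.Agent.H80.UnivHomeo (restrictComp)
open Groth.Agent.H99.FEtAlg (restrictId)

theorem restrict_iso {X Y : Scheme.{u}} (e : X ≅ Y) : (FEt.restrict e.hom).IsEquivalence :=
  (CategoryTheory.Equivalence.mk (FEt.restrict e.hom) (FEt.restrict e.inv)
    ((restrictId _).symm ≪≫ eqToIso (by rw [Iso.inv_hom_id]) ≪≫ restrictComp e.inv e.hom)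
    ((restrictComp e.hom e.inv).symm ≪≫ eqToIso (by rw [Iso.hom_inv_id]) ≪≫ restrictId _)).isEquivalence_functor

theorem restrict_isIso {X Y : Scheme.{u}} (f : X ⟶ Y) [IsIso f] : (FEt.restrict f).IsEquivalence :=
  restrict_iso (asIso f)

theorem restrict_comp {X Y Z : Scheme.{u}} (f : X ⟶ Y) (g : Y ⟶ Z)
    (hf : (FEt.restrict f).IsEquivalence) (hg : (FEt.restrict g).IsEquivalence) :
    (FEt.restrict (f ≫ g)).IsEquivalence :=
  Functor.isEquivalence_of_iso (restrictComp f g).symm

variable {A : Type u} [CommRing A] [IsNoetherianRing A] [IsLocalRing A]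

theorem isPurePair_of_restrict (h : (FEt.restrict (FEt.puncturedSpec A).ι).IsEquivalence) :
    SGA2.IsPurePair (Spec (CommRingCat.of A)) (FEt.puncturedSpec A) := by
  intro V
  let U := FEt.puncturedSpec A
  by_cases hV : (closedPoint A : Spec (CommRingCat.of A)) ∈ V
  · have hVtop : V = ⊤ := top_le_iff.1 fun x _ =>
      ((PrimeSpectrum.le_iff_specializes x (closedPoint A)).mp
        (IsLocalRing.le_maximalIdeal x.isPrime.ne_top)).mem_open V.2 hV
    subst hVtop
    let k := IsOpenImmersion.isoOfRangeEq ((⊤ ⊓ U : (Spec (CommRingCat.of A)).Opens)).ι U.ι (by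
      rw [Scheme.Opens.range_ι, Scheme.Opens.range_ι, top_inf_eq])
    have hk : k.hom ≫ U.ι = (⊤ ⊓ U : (Spec (CommRingCat.of A)).Opens).ι :=
      IsOpenImmersion.isoOfRangeEq_hom_fac _ _ _
    let T := IsOpenImmersion.isoOfRangeEq (⊤ : (Spec (CommRingCat.of A)).Opens).ι (𝟙 (Spec (CommRingCat.of A))) (by
      rw [Scheme.Opens.range_ι]
      exact (Set.range_id).symm)
    have hT : T.hom = (⊤ : (Spec (CommRingCat.of A)).Opens).ι := by
      have := IsOpenImmersion.isoOfRangeEq_hom_fac (⊤ : (Spec (CommRingCat.of A)).Opens).ι (𝟙 (Spec (CommRingCat.of A))) (by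
        rw [Scheme.Opens.range_ι]
        exact (Set.range_id).symm)
      rwa [Category.comp_id] at this
    have he : (Spec (CommRingCat.of A)).homOfLE (inf_le_left : (⊤ ⊓ U) ≤ ⊤) = (k.hom ≫ U.ι) ≫ T.inv := by
      rw [hk, Iso.eq_comp_inv, hT, Scheme.homOfLE_ι]
    rw [he]
    exact restrict_comp _ _ (restrict_comp _ _ (restrict_iso k) h) (restrict_iso T.symm)
  · have hle : V ⊓ U = V := inf_eq_left.2 fun x hx (hxc : x = closedPoint A) => hV (hxc ▸ hx)
    have : IsIso ((Spec (CommRingCat.of A)).homOfLE (inf_le_left : V ⊓ U ≤ V)) :=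
      ⟨(Spec (CommRingCat.of A)).homOfLE hle.ge, by simp, by simp⟩
    exact restrict_isIso _

theorem restrict_of_isPurePair (h : SGA2.IsPurePair (Spec (CommRingCat.of A)) (FEt.puncturedSpec A)) :
    (FEt.restrict (FEt.puncturedSpec A).ι).IsEquivalence := by
  let U := FEt.puncturedSpec A
  let k := IsOpenImmersion.isoOfRangeEq U.ι ((⊤ ⊓ U : (Spec (CommRingCat.of A)).Opens)).ι (by
    rw [Scheme.Opens.range_ι, Scheme.Opens.range_ι, top_inf_eq])
  have he : U.ι = (k.hom ≫ (Spec (CommRingCat.of A)).homOfLE (inf_le_left : (⊤ ⊓ U) ≤ ⊤)) ≫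
      (⊤ : (Spec (CommRingCat.of A)).Opens).ι := by
    rw [Category.assoc, Scheme.homOfLE_ι, IsOpenImmersion.isoOfRangeEq_hom_fac]
  rw [he]
  haveI : IsIso (⊤ : (Spec (CommRingCat.of A)).Opens).ι := by
    have : Surjective (⊤ : (Spec (CommRingCat.of A)).Opens).ι := ⟨fun x => ⟨⟨x, trivial⟩, rfl⟩⟩
    exact (isIso_iff_isOpenImmersion_and_epi_base _).2 ⟨inferInstance, (TopCat.epi_iff_surjective _).2 this.1⟩
  exact restrict_comp _ _ (restrict_comp _ _ (restrict_iso k) (h ⊤)) (restrict_isIso _)

lemma exists_between {R : Type u} [CommRing R] [IsLocalRing R] (p : Ideal R) [p.IsPrime]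
    (h : ¬ ringKrullDim (R ⧸ p) ≤ 1) : ∃ q : Ideal R, q.IsPrime ∧ p < q ∧ q < maximalIdeal R := by
  by_contra hc
  push Not at hc
  refine h ?_
  rw [ringKrullDim_quotient, Order.krullDim_le_one_iff]
  rintro ⟨x, hx⟩
  by_cases hxp : x.asIdeal = p
  · left
    intro y _
    show x.asIdeal ≤ y.1.asIdeal
    rw [hxp]
    exact y.2
  · right
    intro y hy
    show y.1.asIdeal ≤ x.asIdeal
    have hlt : p < x.asIdeal := lt_of_le_of_ne hx (Ne.symm hxp)
    have hm : x.asIdeal = maximalIdeal R := by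
      by_contra hne
      exact hc x.asIdeal x.isPrime hlt (lt_of_le_of_ne (le_maximalIdeal x.isPrime.ne_top) hne)
    rw [hm]
    exact le_maximalIdeal y.1.isPrime.ne_top

theorem two_lt_of_depth_points
    (hdepth : ∀ p : Ideal A, ∀ _ : p.IsPrime, ringKrullDim (A ⧸ p) = 1 →
      (2 : ℕ∞) ≤ LocCoh.depth (Localization.AtPrime p) (Localization.AtPrime p))
    (p : Ideal A) [p.IsPrime] (hpm : p ≠ maximalIdeal A) :
    (2 : WithBot ℕ∞) < (LocCoh.depth (Localization.AtPrime p) (Localization.AtPrime p) : WithBot ℕ∞) +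
      ringKrullDim (A ⧸ p) := by
  have hlt : p < maximalIdeal A := lt_of_le_of_ne (le_maximalIdeal (Ideal.IsPrime.ne_top ‹_›)) hpm
  have h1 : (1 : WithBot ℕ∞) ≤ ringKrullDim (A ⧸ p) := by
    have := Lib.Depth.Assoc.ringKrullDim_quotient_add_one_le_of_lt hlt
    refine le_trans ?_ this
    haveI : Nontrivial (A ⧸ maximalIdeal A) := Ideal.Quotient.nontrivial_iff.mpr Ideal.IsPrime.ne_top'
    exact le_add_of_nonneg_left ringKrullDim_nonneg_of_nontrivial
  obtain ⟨d, hd⟩ := WithBot.ne_bot_iff_exists.1 (ne_bot_of_le_ne_bot (WithBot.coe_ne_bot (a := (1 : ℕ∞))) h1)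
  rw [← hd] at h1 ⊢
  have h1' : (1 : ℕ∞) ≤ d := WithBot.coe_le_coe.1 h1
  refine WithBot.coe_lt_coe.2 ?_
  rcases eq_or_lt_of_le h1' with h | h
  · have h2 : (2 : ℕ∞) ≤ LocCoh.depth (Localization.AtPrime p) (Localization.AtPrime p) :=
      hdepth p inferInstance (by rw [← hd, ← h]; rfl)
    rw [← h]
    calc (2 : ℕ∞) < 2 + 1 := by norm_num
      _ ≤ _ := add_le_add_left h2 1 |>.trans le_rfl
  · have h2' : (2 : ℕ∞) ≤ d := by
      have := Order.add_one_le_of_lt h
      simpa [one_add_one_eq_two] using this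
    rcases eq_or_lt_of_le h2' with h3 | h3
    swap
    · exact h3.trans_le le_add_self
    suffices hne : LocCoh.depth (Localization.AtPrime p) (Localization.AtPrime p) ≠ 0 by
      rw [← h3]
      have h1d : (1 : ℕ∞) ≤ LocCoh.depth (Localization.AtPrime p) (Localization.AtPrime p) :=
        Order.one_le_iff_pos.2 (pos_iff_ne_zero.2 hne)
      exact (show (2 : ℕ∞) < 1 + 2 by norm_num).trans_le (add_le_add h1d le_rfl)
    intro h0
    obtain ⟨q, hq, hpq, hqm⟩ := exists_between p (by rw [← hd, ← h3]; exact not_le.2 (by norm_cast))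
    have hq1 : ringKrullDim (A ⧸ q) = 1 := by
      have e1 := Lib.Depth.Assoc.ringKrullDim_quotient_add_one_le_of_lt hpq
      have e2 := Lib.Depth.Assoc.ringKrullDim_quotient_add_one_le_of_lt hqm
      haveI : Nontrivial (A ⧸ maximalIdeal A) := Ideal.Quotient.nontrivial_iff.mpr Ideal.IsPrime.ne_top'
      have e3 : (1 : WithBot ℕ∞) ≤ ringKrullDim (A ⧸ q) :=
        le_trans (le_add_of_nonneg_left ringKrullDim_nonneg_of_nontrivial) e2
      rw [← hd, ← h3] at e1
      obtain ⟨c, hc⟩ := WithBot.ne_bot_iff_exists.1 (ne_bot_of_le_ne_bot (WithBot.coe_ne_bot (a := (1 : ℕ∞))) e3)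
      rw [← hc] at e1 e3 ⊢
      have e1' : c + 1 ≤ 2 := WithBot.coe_le_coe.1 e1
      have e3' : (1 : ℕ∞) ≤ c := WithBot.coe_le_coe.1 e3
      refine congrArg WithBot.some (le_antisymm ?_ e3')
      rw [← one_add_one_eq_two] at e1'
      exact (ENat.add_le_add_iff_right (by simp)).1 e1'
    have h2 := hdepth q hq hq1
    -- `p` is associated
    let R := Localization.AtPrime p
    have hass : maximalIdeal R ∈ associatedPrimes R R :=
      (Lib.Depth.Assoc.depth_eq_zero_iff (M := R)).1 h0
    have hpA : p ∈ associatedPrimes A A := by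
      rw [← Module.associatedPrimes.preimage_comap_associatedPrimes_eq_associatedPrimes_of_isLocalizedModule
        p.primeCompl R (Algebra.linearMap A R), Set.mem_preimage] at hass
      exact (IsLocalization.AtPrime.under_maximalIdeal R p) ▸ hass
    let S := Localization.AtPrime q
    let P' : Ideal S := p.map (algebraMap A S)
    have hdisj : Disjoint (q.primeCompl : Set A) (p : Set A) :=
      Set.disjoint_left.mpr fun a ha hb => ha (hpq.le hb)
    have hcom : P'.comap (algebraMap A S) = p :=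
      IsLocalization.under_map_of_isPrime_disjoint q.primeCompl S ‹_› hdisj
    haveI : P'.IsPrime := IsLocalization.isPrime_of_isPrime_disjoint q.primeCompl S p ‹_› hdisj
    have hP' : P' ∈ associatedPrimes S S := by
      rw [← Module.associatedPrimes.preimage_comap_associatedPrimes_eq_associatedPrimes_of_isLocalizedModule
        q.primeCompl S (Algebra.linearMap A S), Set.mem_preimage, hcom]
      exact hpA
    have h4 := Lib.Depth.Assoc.depth_le_ringKrullDim_quotient S hP'
    have h5 : ringKrullDim (S ⧸ P') ≤ 1 := by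
      by_contra hc
      obtain ⟨J, hJ, hPJ, hJm⟩ := exists_between P' hc
      let r := J.comap (algebraMap A S)
      have hr1 : p < r := by
        refine lt_of_le_of_ne (hcom.ge.trans (Ideal.comap_mono hPJ.le)) fun h => hPJ.ne ?_
        rw [← IsLocalization.map_under q.primeCompl S J]
        exact congrArg (Ideal.map (algebraMap A S)) h
      have hr2 : r < q := by
        refine lt_of_le_of_ne ((Ideal.comap_mono hJm.le).trans
          (IsLocalization.AtPrime.under_maximalIdeal S q).le) fun h => hJm.ne ?_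
        rw [← IsLocalization.map_under q.primeCompl S J, ← IsLocalization.map_under q.primeCompl S (maximalIdeal S)]
        exact congrArg (Ideal.map (algebraMap A S)) (h.trans (IsLocalization.AtPrime.under_maximalIdeal S q).symm)
      have e1 := Lib.Depth.Assoc.ringKrullDim_quotient_add_one_le_of_lt hr1
      have e2 := Lib.Depth.Assoc.ringKrullDim_quotient_add_one_le_of_lt hr2
      rw [hq1] at e2
      rw [← hd, ← h3] at e1
      have := (add_le_add_left e2 1).trans e1
      exact absurd this (by norm_cast)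
    have h6 := (WithBot.coe_le_coe.2 h2).trans (h4.trans h5)
    exact absurd h6 (by norm_cast)

theorem isPurePair_of_quotient (hq : ∃ (B : Type u) (_ : CommRing B) (_ : IsRegularLocalRing B) (φ : B →+* A),
      Function.Surjective φ) (t : A) (ht : t ∈ maximalIdeal A) [IsAdicComplete (Ideal.span {t}) A]
    (hdepth : ∀ p : Ideal A, ∀ _ : p.IsPrime, ringKrullDim (A ⧸ p) = 1 →
      (2 : ℕ∞) ≤ LocCoh.depth (Localization.AtPrime p) (Localization.AtPrime p))
    [IsLocalRing (A ⧸ Ideal.span {t})]
    (hB : SGA2.IsPurePair (Spec (CommRingCat.of (A ⧸ Ideal.span {t}))) (FEt.puncturedSpec (A ⧸ Ideal.span {t}))) :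
    SGA2.IsPurePair (Spec (CommRingCat.of A)) (FEt.puncturedSpec A) := by
  refine isPurePair_of_restrict ?_
  obtain ⟨B, _, _, φ, hφ⟩ := hq
  obtain ⟨k, hk⟩ := (Lib.Goren.Basic.isGorensteinLocalRing_of_isRegular B).exists_hasInjectiveDimensionLT
  obtain ⟨ω, hω⟩ := Lib.DMod.FiniteRing.exists_isDualizing φ (RingHom.Finite.of_surjective φ hφ)
    (Lib.DMod.Gorenstein.isDualizing_self hk)
  have hc : ∀ p : Ideal A, ∀ _ : p.IsPrime, t ∉ p → (2 : WithBot ℕ∞) <
      (LocCoh.depth (Localization.AtPrime p) (Localization.AtPrime p) : WithBot ℕ∞) + ringKrullDim (A ⧸ p) :=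
    fun p _ htp => two_lt_of_depth_points hdepth p fun h => htp (h ▸ ht)
  haveI : HenselianRing A (Ideal.span {t}) := inferInstance
  obtain ⟨hF, hFf⟩ := Groth.Agent.S1135.result A t ht
    (H80.Clopen.Torsion.exists_killed_of_dualizing hω t hc 1 (by norm_num))
    (H80.Clopen.Torsion.exists_killed_of_dualizing hω t hc 2 le_rfl)
  let U := FEt.puncturedSpec A
  let U₀ := FEt.puncturedSpec (A ⧸ Ideal.span {t})
  let q := FEtAlg.qI (Ideal.span {t})
  have hq0 : (FEt.restrict q).IsEquivalence := Groth.Agent.S0239.result A (Ideal.span {t})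
  have h0 := restrict_of_isPurePair hB
  haveI : IsLocalHom (Ideal.Quotient.mk (Ideal.span {t})) := IsLocalHom.of_surjective _ Ideal.Quotient.mk_surjective
  haveI : IsLocalHom (CommRingCat.Hom.hom (CommRingCat.ofHom (Ideal.Quotient.mk (Ideal.span {t})))) :=
    IsLocalHom.of_surjective _ Ideal.Quotient.mk_surjective
  have hmem : ∀ z : Spec (CommRingCat.of (A ⧸ Ideal.span {t})), z ∈ U₀ ↔ q.base z ∈ U := fun z => by
    refine not_congr ⟨fun h => ?_, fun h => ?_⟩
    · rw [show (z : PrimeSpectrum _) = closedPoint _ from h]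
      exact PrimeSpectrum.ext (IsLocalRing.maximalIdeal_comap _)
    · refine q.isClosedEmbedding.injective (Eq.trans h ?_)
      exact (PrimeSpectrum.ext (IsLocalRing.maximalIdeal_comap (Ideal.Quotient.mk (Ideal.span {t})))).symm
  let j : FEtAlg.PI (Ideal.span {t}) ≅ (U₀ : Scheme.{u}) := IsOpenImmersion.isoOfRangeEq
    (pullback.snd U.ι q) U₀.ι (by
      rw [Scheme.Pullback.range_snd, Scheme.Opens.range_ι, Scheme.Opens.range_ι]
      ext z
      exact (hmem z).symm)
  have hj : j.hom ≫ U₀.ι = pullback.snd U.ι q := IsOpenImmersion.isoOfRangeEq_hom_fac _ _ _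
  have hcomp : (FEt.restrict (pullback.fst U.ι q ≫ U.ι)).IsEquivalence := by
    rw [pullback.condition, ← hj]
    exact restrict_comp _ _ (restrict_comp _ _ (restrict_iso j) h0) hq0
  let F := FEt.restrict U.ι
  let G := FEt.restrict (pullback.fst U.ι q)
  haveI : G.Full := hF
  haveI : G.Faithful := hFf
  haveI : (F ⋙ G).IsEquivalence := Functor.isEquivalence_of_iso (restrictComp (pullback.fst U.ι q) U.ι)
  haveI : G.EssSurj := ⟨fun W => ⟨F.obj ((F ⋙ G).objPreimage W), ⟨(F ⋙ G).objObjPreimageIso W⟩⟩⟩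
  haveI : G.IsEquivalence := {}
  exact Functor.isEquivalence_of_comp_right F G

end Groth.Agent.H99.PureLift
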