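import Groth.Prelude.Def_FEt
import Groth.Agent.H99.FEtAlg.Extend
import Groth.Agent.Lib.Unram.UnibranchEtaleLocal
import Groth.Agent.Lib.Unram.SepDegreeEq
import Groth.Agent.Lib.FEt.NormalAlg
import Mathlib.AlgebraicGeometry.Morphisms.Finite
import Mathlib.RingTheory.LocalProperties.IntegrallyClosed

/-!
# A finite normal extension of a pure normal local domain, étale over the punctured spectrum, is étale
-/

set_option autoImplicit false
set_option linter.style.haveILetI false
set_option backward.isDefEq.respectTransparency false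

universe u

open CategoryTheory CategoryTheory.Limits AlgebraicGeometry IsLocalRing
open scoped TensorProduct

namespace Groth.Agent.H99.PurityNormal

variable (T S : Type u) [CommRing T] [IsDomain T] [IsNoetherianRing T] [IsLocalRing T] [IsIntegrallyClosed T]
  [CommRing S] [IsDomain S] [IsIntegrallyClosed S] [Algebra T S] [Module.Finite T S]

omit [IsIntegrallyClosed S] in
/-- The extension is étale at the primes over the punctured spectrum. -/
theorem mem_etaleLocus (hinj : Function.Injective (algebraMap T S))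
    (Q : PrimeSpectrum S) [Algebra.IsUnramifiedAt T Q.asIdeal] : Q ∈ Algebra.etaleLocus T S := by
  haveI : Algebra.FinitePresentation T S := Algebra.FinitePresentation.of_finiteType.mp inferInstance
  let p := Q.asIdeal.under T
  haveI : IsDomain (Localization.AtPrime p) :=
    IsLocalization.isDomain_localization p.primeCompl_le_nonZeroDivisors
  haveI : IsIntegrallyClosed (Localization.AtPrime p) :=
    isIntegrallyClosed_of_isLocalization _ p.primeCompl p.primeCompl_le_nonZeroDivisors
  have hloc : Function.Injective (Localization.localRingHom p Q.asIdeal (algebraMap T S) (Q.asIdeal.over_def p)) := by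
    rw [injective_iff_map_eq_zero]
    intro x hx
    obtain ⟨a, s, rfl⟩ := IsLocalization.exists_mk'_eq p.primeCompl x
    rw [Localization.localRingHom_mk', IsLocalization.mk'_eq_zero_iff] at hx
    obtain ⟨m, hm⟩ := hx
    have ha : a = 0 := hinj (((mul_eq_zero.mp hm).resolve_left fun h => m.2 (h ▸ zero_mem _)).trans (map_zero _).symm)
    rw [ha, IsLocalization.mk'_zero]
  obtain ⟨g, hg, hget⟩ := Lib.Unram.UnibranchEtaleLocal.exists_etale_away_of_injective T S Q.asIdeal p
    (Lib.Unram.OneBranch.isGeomUnibranch_of_isIntegrallyClosed _) hloc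
  exact Algebra.basicOpen_subset_etaleLocus_iff_etale.mpr hget hg

/-- Purity of a normal extension. -/
theorem etale_of_essSurj (hinj : Function.Injective (algebraMap T S))
    (h : (FEt.restrict (FEt.puncturedSpec T).ι).EssSurj) (f : T) (hf : f ∈ maximalIdeal T) (hf0 : f ≠ 0)
    (hunr : ∀ (Q : Ideal S) [Q.IsPrime], Q.under T ≠ maximalIdeal T → Algebra.IsUnramifiedAt T Q) :
    Algebra.Etale T S := by
  haveI : Algebra.FinitePresentation T S := Algebra.FinitePresentation.of_finiteType.mp inferInstance
  let U := FEt.puncturedSpec T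
  let c := Spec.map (CommRingCat.ofHom (algebraMap T S))
  haveI : IsFinite c := (IsFinite.SpecMap_iff _).mpr (RingHom.finite_algebraMap.mpr inferInstance)
  haveI : Etale ((c ⁻¹ᵁ U).ι ≫ c) := FEtAlg.etale_of_le_etaleLocus _ fun (Q : PrimeSpectrum S) hQ => by
    haveI := hunr Q.asIdeal fun e => hQ (PrimeSpectrum.ext e)
    exact mem_etaleLocus T S hinj Q
  haveI : Etale (pullback.snd c U.ι) := by
    haveI : Etale (pullback.snd c U.ι ≫ U.ι) := by
      rw [← pullback.condition, ← pullbackRestrictIsoRestrict_hom_ι, Category.assoc]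
      infer_instance
    exact MorphismProperty.of_postcomp (W := @Etale) (W' := @Etale) _ U.ι inferInstance inferInstance
  let WU : FEt.Cat (U : Scheme.{u}) :=
    MorphismProperty.Over.mk ⊤ (pullback.snd c U.ι) ⟨inferInstance, inferInstance⟩
  obtain ⟨Y, ⟨e⟩⟩ := h.mem_essImage WU
  haveI : IsFinite Y.hom := Y.prop.1
  haveI : Etale Y.hom := Y.prop.2
  haveI : IsAffine ((Functor.fromPUnit (Spec (CommRingCat.of T))).obj Y.right) :=
    inferInstanceAs (IsAffine (Spec (CommRingCat.of T)))
  haveI : IsAffine Y.left := isAffine_of_isAffineHom Y.hom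
  let C := Γ(Y.left, ⊤)
  let φ : CommRingCat.of T ⟶ C := Spec.preimage (Y.left.isoSpec.inv ≫ Y.hom)
  have hφ : Spec.map φ = Y.left.isoSpec.inv ≫ Y.hom := Spec.map_preimage _
  letI : Algebra T C := φ.hom.toAlgebra
  let cC := Spec.map (CommRingCat.ofHom (algebraMap T C))
  have hcC : cC = Y.left.isoSpec.inv ≫ Y.hom := hφ
  haveI : IsFinite cC := by rw [hcC]; infer_instance
  haveI : Etale cC := by rw [hcC]; infer_instance
  haveI : Module.Finite T C := RingHom.finite_algebraMap.mp ((IsFinite.SpecMap_iff _).mp ‹IsFinite cC›)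
  haveI : Algebra.Etale T C :=
    RingHom.etale_algebraMap.mp ((HasRingHomProperty.Spec_iff (P := @Etale)).mp ‹Etale cC›)
  let Af := Localization.Away f
  let d := Spec.map (CommRingCat.ofHom (algebraMap T Af))
  let l := IsOpenImmersion.lift U.ι d (by
    rw [Scheme.Opens.range_ι]
    rintro _ ⟨(p : PrimeSpectrum Af), rfl⟩ hp
    have : f ∈ p.asIdeal.comap (algebraMap T Af) := by
      rw [show p.asIdeal.comap (algebraMap T Af) = maximalIdeal T from congrArg PrimeSpectrum.asIdeal
        (show PrimeSpectrum.comap (algebraMap T Af) p = closedPoint T from hp)]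
      exact hf
    exact p.2.ne_top (Ideal.eq_top_of_isUnit_mem _ this (IsLocalization.Away.algebraMap_isUnit f)))
  have hl : d = l ≫ U.ι := (IsOpenImmersion.lift_fac _ _ _).symm
  let el := (MorphismProperty.Over.forget _ _ _ ⋙ CategoryTheory.Over.forget _).mapIso e
  have hel : el.hom ≫ pullback.snd c U.ι = pullback.snd Y.hom U.ι :=
    CategoryTheory.Over.w ((MorphismProperty.Over.forget _ _ _).map e.hom)
  let γ : pullback cC d ≅ pullback c d :=
    asIso (pullback.map cC d Y.hom d Y.left.isoSpec.inv (𝟙 _) (𝟙 _) (by rw [hcC, Category.comp_id]) (by simp)) ≪≫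
      pullback.congrHom rfl hl ≪≫ (pullbackLeftPullbackSndIso Y.hom U.ι l).symm ≪≫
        asIso (pullback.map (pullback.snd Y.hom U.ι) l (pullback.snd c U.ι) l el.hom (𝟙 _) (𝟙 _)
          (by rw [Category.comp_id, hel]) (by simp)) ≪≫
          pullbackLeftPullbackSndIso c U.ι l ≪≫ pullback.congrHom rfl hl.symm
  have hγ : γ.hom ≫ pullback.snd c d = pullback.snd cC d := by simp [γ]
  let ζ := (pullbackSpecIso T C Af).symm ≪≫ γ ≪≫ pullbackSpecIso T S Af
  let θ : CommRingCat.of (C ⊗[T] Af) ⟶ CommRingCat.of (S ⊗[T] Af) := Spec.preimage ζ.inv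
  let θ' : CommRingCat.of (S ⊗[T] Af) ⟶ CommRingCat.of (C ⊗[T] Af) := Spec.preimage ζ.hom
  haveI : IsIso θ := ⟨θ', Spec.map_injective (by simp [θ, θ']), Spec.map_injective (by simp [θ, θ'])⟩
  have hθbij : Function.Bijective θ := ConcreteCategory.bijective_of_isIso θ
  have hθr : ∀ a : Af, θ ((1 : C) ⊗ₜ[T] a) = (1 : S) ⊗ₜ[T] a := fun a => by
    have hk : CommRingCat.ofHom Algebra.TensorProduct.includeRight.toRingHom ≫ θ =
        CommRingCat.ofHom (Algebra.TensorProduct.includeRight (R := T) (A := S) (B := Af)).toRingHom := by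
      apply Spec.map_injective
      rw [Spec.map_comp, show Spec.map θ = ζ.inv from Spec.map_preimage _]
      refine Eq.trans (congrArg (ζ.inv ≫ ·) (pullbackSpecIso_inv_snd T C Af).symm)
        (Eq.trans ?_ (pullbackSpecIso_inv_snd T S Af))
      have hγ' : γ.inv ≫ pullback.snd cC d = pullback.snd c d := by rw [Iso.inv_comp_eq, hγ]
      show ((pullbackSpecIso T S Af).inv ≫ γ.inv ≫ (pullbackSpecIso T C Af).hom) ≫
        (pullbackSpecIso T C Af).inv ≫ pullback.snd cC d = _
      simp only [Category.assoc, Iso.hom_inv_id_assoc]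
      exact congrArg _ hγ'
    exact congr($hk a)
  let θa : C ⊗[T] Af →ₐ[T] S ⊗[T] Af :=
    { θ.hom with
      commutes' := fun r => by
        rw [← (Algebra.TensorProduct.includeRight (R := T) (A := C) (B := Af)).commutes r,
          ← (Algebra.TensorProduct.includeRight (R := T) (A := S) (B := Af)).commutes r]
        exact hθr _ }
  -- everything lives in the fraction field of `S`
  let L := FractionRing S
  let ιS := IsScalarTower.toAlgHom T S L
  have hιS : Function.Injective ιS := IsFractionRing.injective S L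
  have hfL : algebraMap T L f ≠ 0 := fun hz => hf0 (hinj (hιS (by
    rw [map_zero, map_zero]
    exact (IsScalarTower.algebraMap_apply T S L f).symm.trans hz)))
  let j : Af →ₐ[T] L := IsLocalization.liftAlgHom (M := Submonoid.powers f) (f := Algebra.ofId T L) (by
    rintro ⟨_, n, rfl⟩
    change IsUnit (algebraMap T L (f ^ n))
    rw [map_pow]
    exact (isUnit_iff_ne_zero.mpr hfL).pow n)
  let ρ : S ⊗[T] Af →ₐ[T] L := Algebra.TensorProduct.lift ιS j fun _ _ => Commute.all _ _
  have hρl : ∀ s : S, ρ (s ⊗ₜ[T] (1 : Af)) = algebraMap S L s := fun s => by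
    show Algebra.TensorProduct.lift ιS j _ _ = _
    rw [Algebra.TensorProduct.lift_tmul, map_one, mul_one]
    rfl
  have hfrac : ∀ (R : Type u) [CommRing R] [Algebra T R] (x : R ⊗[T] Af), ∃ (a : R) (n : ℕ),
      x * algebraMap T (R ⊗[T] Af) (f ^ n) = a ⊗ₜ[T] (1 : Af) := fun R _ _ x => by
    obtain ⟨a, ⟨_, _, ⟨n, rfl⟩, rfl⟩, rfl⟩ :=
      IsLocalization.exists_mk'_eq (Algebra.algebraMapSubmonoid R (Submonoid.powers f)) x
    refine ⟨a, n, ?_⟩
    rw [IsScalarTower.algebraMap_apply T R (R ⊗[T] Af)]
    exact IsLocalization.mk'_spec _ _ _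
  have hρ : Function.Injective ρ := (injective_iff_map_eq_zero ρ).mpr fun x hx => by
    obtain ⟨a, n, ha⟩ := hfrac S x
    have := congrArg ρ ha
    rw [map_mul, hx, zero_mul, hρl] at this
    rw [hιS (this.symm.trans (map_zero ιS).symm), TensorProduct.zero_tmul] at ha
    have hu : IsUnit (algebraMap T (S ⊗[T] Af) (f ^ n)) := by
      rw [← (Algebra.TensorProduct.includeRight (R := T) (A := S) (B := Af)).commutes]
      exact ((IsLocalization.Away.algebraMap_isUnit (S := Af) f).pow n |> fun hu => by
        rw [← map_pow] at hu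
        exact hu.map (Algebra.TensorProduct.includeRight (R := T) (A := S) (B := Af)))
    exact hu.mul_left_eq_zero.mp ha
  let Φ : C →ₐ[T] L := (ρ.comp θa).comp Algebra.TensorProduct.includeLeft
  have hΦ : Function.Injective Φ := by
    haveI : Module.Flat T C := inferInstance
    exact (hρ.comp hθbij.1).comp (Algebra.TensorProduct.includeLeft_injective (S := T)
      (IsLocalization.injective Af (powers_le_nonZeroDivisors_of_noZeroDivisors hf0)))
  haveI : IsDomain C := hΦ.isDomain Φ.toRingHom
  haveI : IsIntegrallyClosed C := IsIntegrallyClosed.of_localization_maximal fun p _ hp => by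
    haveI := hp.isPrime
    exact (Lib.FEt.NormalAlg.normal_localization T C p (Localization.AtPrime p)).2
  have hrange : Φ.range = ιS.range := by
    refine le_antisymm ?_ ?_
    · rintro _ ⟨x, rfl⟩
      have hx : IsIntegral S (Φ x) := ((Algebra.IsIntegral.isIntegral (R := T) x).map Φ).tower_top
      exact IsIntegrallyClosed.isIntegral_iff.mp hx
    · rintro _ ⟨x, rfl⟩
      obtain ⟨y, hy⟩ := hθbij.2 (x ⊗ₜ[T] (1 : Af))
      obtain ⟨a, n, ha⟩ := hfrac C y
      have h1 : ιS x * algebraMap T L (f ^ n) = Φ a := by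
        show _ = ρ (θa (a ⊗ₜ[T] (1 : Af)))
        rw [← ha, map_mul, map_mul, AlgHom.commutes, AlgHom.commutes, show θa y = _ from hy, hρl]
        rfl
      let K := FractionRing C
      let jC : K →ₐ[T] L := IsFractionRing.liftAlgHom (g := Φ) hΦ
      have hjC : ∀ z : C, jC (algebraMap C K z) = Φ z := fun z => IsFractionRing.lift_algebraMap hΦ z
      have hfn : algebraMap T L (f ^ n) ≠ 0 := by rw [map_pow]; exact pow_ne_zero _ hfL
      have hjx : jC (algebraMap C K a / algebraMap T K (f ^ n)) = ιS x := by
        rw [map_div₀, hjC, AlgHom.commutes, div_eq_iff hfn, h1]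
      have hint : IsIntegral T (algebraMap C K a / algebraMap T K (f ^ n)) :=
        (isIntegral_algHom_iff jC jC.toRingHom.injective).mp
          (hjx ▸ (Algebra.IsIntegral.isIntegral (R := T) x).map ιS)
      obtain ⟨z, hz⟩ := IsIntegrallyClosed.isIntegral_iff.mp (hint.tower_top (A := C))
      exact ⟨z, show Φ z = ιS x by rw [← hjC, hz, hjx]⟩
  exact Algebra.Etale.of_equiv ((AlgEquiv.ofInjective Φ hΦ).trans
    ((Subalgebra.equivOfEq _ _ hrange).trans (AlgEquiv.ofInjective ιS hιS).symm))

end Groth.Agent.H99.PurityNormal
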